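import Mathlib
import Cfsg.Agent.HI.Defs

/-!
# Doubly transitive groups of even degree with `L₃(2ⁿ)` normal in a point stabilizer: definitions
-/

set_option autoImplicit false

namespace Cfsg.Agent.HL

open Subgroup MulAction Cfsg.Agent.TT Cfsg.Agent.Perm Cfsg.Agent.Perm.TT Cfsg.Agent.Loc.Mss
open Cfsg.Agent.OT

universe u v

section Group

variable {G : Type u} [Group G]

/-- Incidence of two elation groups. -/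
def Inc (A B : Subgroup G) : Prop := A ⊓ B ≠ ⊥

/-- The group generated by the members of `L` incident with `A`. -/
def Lp (L : Set (Subgroup G)) (A : Subgroup G) : Subgroup G := sSup {B | B ∈ L ∧ Inc A B}

/-- A torus element acting as a Singer cycle on `A ⊓ B`. -/
structure Sing (N : Subgroup G) (q : ℕ) (L : Set (Subgroup G)) (A B A₁ : Subgroup G) (t : G) :
    Prop where
  inc : Inc A B
  off : ¬ Inc A₁ B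
  mem : t ∈ Lp L A
  nB : t ∈ 𝐍[B]
  nA : t ∈ 𝐍[A₁]
  tr : ∀ z ∈ A ⊓ B, ∀ z' ∈ A ⊓ B, z ≠ 1 → z' ≠ 1 → ∃ k : ℕ, t ^ k * z * (t ^ k)⁻¹ = z'
  bor : ∀ g ∈ N, g ∈ 𝐍[A] → g ∈ 𝐍[B] →
    ∃ k : ℕ, ∀ z ∈ A ⊓ B, g * z * g⁻¹ = t ^ k * z * (t ^ k)⁻¹
  par : (∃ n, Odd n ∧ q = 2 ^ n) ∨
    ∃ u ∈ Lp L A, ∃ c ∈ 𝐂[N], u * c ∈ Lp L A₁ ∧ u ∈ 𝐍[B] ∧ u ∉ 𝐂[A ⊓ B]

/-- One half of the axioms: `P` are the groups of elations with a given center, `L` those with a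
given axis. -/
structure Half (N : Subgroup G) (q : ℕ) (P L : Set (Subgroup G)) : Prop where
  le : ∀ A ∈ P, A ≤ N
  sq : ∀ A ∈ P, ∀ x ∈ A, x * x = 1
  card : ∀ A ∈ P, Nat.card A = q ^ 2
  conj : ∀ A ∈ P, ∀ n ∈ N, cj(n, A) ∈ P
  tr : ∀ A ∈ P, ∀ A' ∈ P, ∃ n ∈ N, cj(n, A) = A'
  ti : ∀ A ∈ P, ∀ A' ∈ P, Inc A A' → A = A'
  cov : ∀ z ∈ N, z * z = 1 → z ≠ 1 → ∃ A ∈ P, z ∈ A
  join : ∀ A ∈ P, ∀ A' ∈ P, A ≠ A' → ∃ B ∈ L, Inc A B ∧ Inc A' B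
  uniq : ∀ A ∈ P, ∀ A' ∈ P, ∀ B ∈ L, ∀ B' ∈ L, Inc A B → Inc A' B → Inc A B' → Inc A' B' →
    A = A' ∨ B = B'
  inc : ∀ A ∈ P, ∀ B ∈ L, Inc A B → Nat.card (A ⊓ B : Subgroup G) = q
  fix : ∀ A ∈ P, ∀ B ∈ L, ∀ z ∈ B, z ≠ 1 → (z ∈ 𝐍[A] ↔ Inc A B)
  disj : ∀ A ∈ P, A ∉ L
  sing : ∃ A ∈ P, ∃ B ∈ L, ∃ A₁ ∈ P, ∃ t, Sing N q L A B A₁ t

/-- What is used about `L₃(q)`, `q` even. -/
structure Pl (N : Subgroup G) (q : ℕ) (P L : Set (Subgroup G)) : Prop where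
  p : Half N q P L
  l : Half N q L P
  simple : ∀ M ≤ N, N ≤ 𝐍[M] → M = ⊥ ∨ M = N
  pow : ∃ n, 1 ≤ n ∧ q = 2 ^ n

/-- `g` preserves the two types. -/
def Tp (P L : Set (Subgroup G)) (g : G) : Prop :=
  (∀ A ∈ P, cj(g, A) ∈ P) ∧ ∀ B ∈ L, cj(g, B) ∈ L

/-- `g` interchanges the two types. -/
def Sw (P L : Set (Subgroup G)) (g : G) : Prop :=
  (∀ A ∈ P, cj(g, A) ∈ L) ∧ ∀ B ∈ L, cj(g, B) ∈ P

/-- `g` is a 2-element, or `q = 2`. -/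
def Tw (q : ℕ) (g : G) : Prop := (∃ k, g ^ 2 ^ k = 1) ∨ q = 2

theorem Inc.symm {A B : Subgroup G} (h : Inc A B) : Inc B A := by rwa [Inc, inf_comm]

theorem inc_iff {A B : Subgroup G} : Inc A B ↔ ∃ z ∈ A, z ∈ B ∧ z ≠ 1 := by
  rw [Inc, Ne, eq_bot_iff_forall]
  push Not
  exact ⟨fun ⟨z, hz, h⟩ => ⟨z, hz.1, hz.2, h⟩, fun ⟨z, h1, h2, h⟩ => ⟨z, ⟨h1, h2⟩, h⟩⟩

theorem inc_of {A B : Subgroup G} {z : G} (h1 : z ∈ A) (h2 : z ∈ B) (h : z ≠ 1) : Inc A B :=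
  inc_iff.2 ⟨z, h1, h2, h⟩

theorem inc_cj {A B : Subgroup G} {g : G} : Inc cj(g, A) cj(g, B) ↔ Inc A B := by
  rw [Inc, Inc, ← cj_inf, Ne, cj_eq_bot]

theorem le_Lp {L : Set (Subgroup G)} {A B : Subgroup G} (h : B ∈ L) (hi : Inc A B) : B ≤ Lp L A :=
  le_sSup ⟨h, hi⟩

theorem Lp_le {L : Set (Subgroup G)} {A M : Subgroup G} :
    Lp L A ≤ M ↔ ∀ B ∈ L, Inc A B → B ≤ M :=
  sSup_le_iff.trans ⟨fun h B h1 h2 => h B ⟨h1, h2⟩, fun h B hB => h B hB.1 hB.2⟩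

theorem cj_Lp_le {L L' : Set (Subgroup G)} {A : Subgroup G} {g : G}
    (h : ∀ B ∈ L, cj(g, B) ∈ L') : cj(g, Lp L A) ≤ Lp L' cj(g, A) :=
  cj_le_iff_le_inv.2 (Lp_le.2 fun B h1 h2 => cj_le_iff_le_inv.1 (le_Lp (h B h1) (inc_cj.2 h2)))

theorem Pl.symm {N : Subgroup G} {q : ℕ} {P L : Set (Subgroup G)} (h : Pl N q P L) : Pl N q L P :=
  ⟨h.l, h.p, h.simple, h.pow⟩

theorem Tp.symm {P L : Set (Subgroup G)} {g : G} (h : Tp P L g) : Tp L P g := ⟨h.2, h.1⟩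

theorem Sw.symm {P L : Set (Subgroup G)} {g : G} (h : Sw P L g) : Sw L P g := ⟨h.2, h.1⟩

end Group

section Perm

variable {G : Type u} {X : Type v} [Group G] [MulAction G X]

/-- The standing hypothesis. -/
structure Hy (N : X → Subgroup G) (q : ℕ) : Prop where
  two : Two G X
  fam : Fam N
  even : Even (Nat.card X)
  pl : ∀ x, ∃ P L, Pl (N x) q P L

/-- The Borel case. -/
def Bor (N : X → Subgroup G) : Prop :=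
  ∀ x y : X, x ≠ y → ∃ S, Syl 2 S (N x) ∧ y ∈ Fx X S ∧ Kp N x y ≤ 𝐍[S]

/-- The members of `P` fixing `x`. -/
def At (P : Set (Subgroup G)) (x : X) : Set (Subgroup G) := {A | A ∈ P ∧ x ∈ Fx X A}

/-- The parabolic case: the fixed point sets of the members of `P` are the lines, those of the
members of `L` are the planes of a geometry on `X`. -/
structure Geo (N : X → Subgroup G) (q : ℕ) (P L : Set (Subgroup G)) : Prop extends Hy N q where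
  cjP : ∀ A ∈ P, ∀ g : G, cj(g, A) ∈ P
  cjL : ∀ B ∈ L, ∀ g : G, cj(g, B) ∈ L
  loc : ∀ x : X, Pl (N x) q (At P x) (At L x)
  neP : ∀ A ∈ P, ∃ x : X, x ∈ Fx X A
  neL : ∀ B ∈ L, ∃ x : X, x ∈ Fx X B
  line : ∀ x y : X, x ≠ y → ∃ A ∈ P, x ∈ Fx X A ∧ y ∈ Fx X A
  line1 : ∀ {x y : X}, x ≠ y → ∀ A ∈ P, ∀ A' ∈ P, x ∈ Fx X A → y ∈ Fx X A → x ∈ Fx X A' →
    y ∈ Fx X A' → A = A'
  fixB : ∀ B ∈ L, ∀ z ∈ B, z ≠ 1 → ∀ c : X, z • c = c → c ∈ Fx X B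

/-- The planes are affine. -/
def Par (X : Type v) [MulAction G X] (q : ℕ) (P L : Set (Subgroup G)) : Prop :=
  (∀ A ∈ P, (Fx X A).ncard = q) ∧ ∀ A ∈ P, ∀ B ∈ L, Inc A B → ∀ x ∈ Fx X B,
    ∃ A' ∈ P, x ∈ Fx X A' ∧ A ⊓ B ≤ A' ∧ A ≤ 𝐍[A']

theorem mem_At {P : Set (Subgroup G)} {x : X} {A : Subgroup G} :
    A ∈ At P x ↔ A ∈ P ∧ x ∈ Fx X A := Iff.rfl

end Perm

end Cfsg.Agent.HL
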