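import Mathlib
import Cfsg.Agent.HL.Defs
import Cfsg.Agent.HI.Api

/-! The normalizer of a Singer cycle contains no four-group acting faithfully. -/

set_option autoImplicit false

namespace Cfsg.Agent.HL

open Subgroup MulAction Cfsg.Agent.TT Cfsg.Agent.Perm Cfsg.Agent.Perm.TT Cfsg.Agent.Loc.Mss
open Cfsg.Agent.OT

universe u v

namespace Gal

theorem cyclic_aut (F : Type*) [Field F] [Finite F] : IsCyclic (F ≃+* F) := by
  obtain ⟨p, hp⟩ := CharP.exists F
  have : Fact p.Prime := ⟨CharP.char_is_prime F p⟩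
  let _ : Algebra (ZMod p) F := ZMod.algebra F p
  let e : (F ≃ₐ[ZMod p] F) →* (F ≃+* F) :=
    { toFun := fun α => α.toRingEquiv
      map_one' := rfl
      map_mul' := fun _ _ => rfl }
  refine isCyclic_of_surjective e fun α => ⟨AlgEquiv.ofRingEquiv (f := α) fun x => ?_, rfl⟩
  exact congrArg (fun f : ZMod p →+* F => f x)
    (Subsingleton.elim ((α : F →+* F).comp (algebraMap (ZMod p) F)) (algebraMap (ZMod p) F))

theorem cyc_two {A : Type*} [Group A] [Finite A] [IsCyclic A] {a b : A} (ha : a * a = 1)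
    (hb : b * b = 1) : a = 1 ∨ b = 1 ∨ a = b := by
  classical
  have := Fintype.ofFinite A
  by_contra hc
  push Not at hc
  have h1 := IsCyclic.card_pow_eq_one_le (α := A) (n := 2) two_pos
  have h2 : ({a, b, 1} : Finset A) ⊆ Finset.univ.filter fun x : A => x ^ 2 = 1 := by
    intro x hx
    simp only [Finset.mem_insert, Finset.mem_singleton] at hx
    rcases hx with rfl | rfl | rfl <;> simp [sq, *]
  have h3 := Finset.card_le_card h2
  rw [Finset.card_eq_three.2 ⟨a, b, 1, hc.2.2, hc.1, hc.2.1, rfl⟩] at h3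
  omega

theorem key {H V : Type*} [Group H] [AddCommGroup V] [Finite V] (ρ : H →* AddMonoid.End V)
    (h2 : ∀ v : V, v + v = 0) {t u w : H}
    (tr : ∀ v v', v ≠ 0 → v' ≠ 0 → ∃ k : ℕ, ρ (t ^ k) v = v')
    (hu : ∃ k : ℕ, ρ (u * t * u⁻¹) = ρ (t ^ k)) (hw : ∃ k : ℕ, ρ (w * t * w⁻¹) = ρ (t ^ k))
    (u2 : u * u = 1) (w2 : w * w = 1) (hc : Commute u w) : ρ u = 1 ∨ ρ w = 1 ∨ ρ (u * w) = 1 := by
  rcases subsingleton_or_nontrivial V with hV | hV
  · exact Or.inl (AddMonoidHom.ext fun _ => Subsingleton.elim _ _)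
  obtain ⟨v₀, hv₀⟩ := exists_ne (0 : V)
  let C : Subring (AddMonoid.End V) := Subring.centralizer {ρ t}
  have mC : ∀ φ, φ ∈ C ↔ Commute (ρ t) φ := fun φ => by
    simp [C, Subring.mem_centralizer_iff, commute_iff_eq]
  have hC : ∀ φ ∈ C, φ = 0 ∨ ∃ k : ℕ, φ = ρ (t ^ k) := fun φ hφ => by
    have h1 : ∀ ψ, Commute (ρ t) ψ → φ v₀ = ψ v₀ → φ = ψ := fun ψ hψ e => DFunLike.ext _ _ fun v => by
      by_cases hv : v = 0
      · rw [hv, map_zero, map_zero]
      obtain ⟨k, rfl⟩ := tr v₀ v hv₀ hv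
      have a1 : (ρ t ^ k) (φ v₀) = φ ((ρ t ^ k) v₀) := DFunLike.congr_fun (((mC φ).1 hφ).pow_left k).eq v₀
      have a2 : (ρ t ^ k) (ψ v₀) = ψ ((ρ t ^ k) v₀) := DFunLike.congr_fun (hψ.pow_left k).eq v₀
      rw [map_pow, ← a1, ← a2, e]
    by_cases e : φ v₀ = 0
    · exact Or.inl (h1 0 (Commute.zero_right _) e)
    · obtain ⟨k, hk⟩ := tr v₀ _ hv₀ e
      exact Or.inr ⟨k, h1 _ (((Commute.refl t).pow_right k).map ρ) hk.symm⟩
  have : Nontrivial (AddMonoid.End V) := ⟨1, 0, fun e => hv₀ (DFunLike.congr_fun e v₀)⟩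
  have : NoZeroDivisors C := ⟨fun {a b} e => by
    rcases hC a.1 a.2 with h | ⟨k, h⟩
    · exact Or.inl (Subtype.ext h)
    · have e' : a.1 * b.1 = 0 := congrArg Subtype.val e
      rw [h, ((Group.isUnit _).map ρ).mul_right_eq_zero] at e'
      exact Or.inr (Subtype.ext e')⟩
  have : IsDomain C := NoZeroDivisors.to_isDomain C
  have : Finite (AddMonoid.End V) := DFunLike.finite _
  have fin : ∀ s : H, s * s = 1 → ρ s * ρ t * ρ s = ρ t → ρ s = 1 := fun s hs e => by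
    have e1 : ρ s * ρ s = 1 := by rw [← map_mul, hs, map_one]
    have m : ρ s ∈ C := (mC _).2 (by
      rw [commute_iff_eq]
      conv_lhs => rw [← e, mul_assoc, e1, mul_one])
    rcases (mul_self_eq_one_iff (a := (⟨ρ s, m⟩ : C))).1 (Subtype.ext e1) with h | h
    · exact congrArg Subtype.val h
    · refine (congrArg Subtype.val h).trans (AddMonoidHom.ext fun v => ?_)
      exact neg_eq_of_add_eq_zero_left (h2 v)
  have aut : ∀ s : H, s * s = 1 → (∃ k : ℕ, ρ (s * t * s⁻¹) = ρ (t ^ k)) →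
      ∃ σ : C ≃+* C, σ * σ = 1 ∧ ∀ φ, (σ φ : AddMonoid.End V) = ρ s * φ * ρ s := fun s hs ⟨k, hk⟩ => by
    have e1 : ρ s * ρ s = 1 := by rw [← map_mul, hs, map_one]
    have m : ∀ φ : C, ρ s * φ * ρ s ∈ C := fun φ => by
      rcases hC φ.1 φ.2 with h | ⟨j, h⟩
      · rw [h, mul_zero, zero_mul]; exact zero_mem _
      · rw [h, ← map_mul, ← map_mul, show s * t ^ j * s = (s * t * s⁻¹) ^ j by
          rw [conj_pow, inv_eq_of_mul_eq_one_left hs], map_pow, hk, map_pow]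
        exact pow_mem (pow_mem ((mC _).2 (Commute.refl _)) _) _
    have inv : ∀ φ : AddMonoid.End V, ρ s * (ρ s * φ * ρ s) * ρ s = φ := fun φ => by
      rw [← mul_assoc, ← mul_assoc, e1, one_mul, mul_assoc, e1, mul_one]
    exact ⟨{ toFun := fun φ => ⟨_, m φ⟩
             invFun := fun φ => ⟨_, m φ⟩
             left_inv := fun φ => Subtype.ext (inv φ)
             right_inv := fun φ => Subtype.ext (inv φ)
             map_mul' := fun a b => Subtype.ext (by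
               change ρ s * (a.1 * b.1) * ρ s = ρ s * a * ρ s * (ρ s * b * ρ s)
               simp only [mul_assoc]
               rw [← mul_assoc (ρ s) (ρ s), e1, one_mul])
             map_add' := fun a b => Subtype.ext (by
               change ρ s * (a.1 + b.1) * ρ s = ρ s * a * ρ s + ρ s * b * ρ s
               rw [mul_add, add_mul]) },
      RingEquiv.ext fun φ => Subtype.ext (inv φ), fun _ => rfl⟩
  obtain ⟨α, α2, hα⟩ := aut u u2 hu
  obtain ⟨β, β2, hβ⟩ := aut w w2 hw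
  have : IsCyclic (C ≃+* C) := by
    letI := (Finite.isDomain_to_isField C).toField
    exact cyclic_aut C
  let τ : C := ⟨ρ t, (mC _).2 (Commute.refl _)⟩
  have : Finite (C ≃+* C) := DFunLike.finite _
  rcases cyc_two α2 β2 with h | h | h
  · exact Or.inl (fin u u2 (by rw [← hα τ, h]; rfl))
  · exact Or.inr (Or.inl (fin w w2 (by rw [← hβ τ, h]; rfl)))
  · refine Or.inr (Or.inr (fin _ (by rw [hc.symm.mul_mul_mul_comm, u2, w2, mul_one]) ?_))
    have e : ((α * α) τ : AddMonoid.End V) = ρ t := by rw [α2]; rfl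
    rw [RingAut.mul_apply, hα, h, hβ] at e
    conv_lhs => enter [2]; rw [hc.eq]
    simpa only [map_mul, mul_assoc] using e

end Gal

variable {G : Type u} [Group G] [Finite G]

/-- The normalizer of a Singer cycle contains no four-group acting faithfully. -/
theorem gal {Z M : Subgroup G} {t u w : G} (hZ : ∀ z ∈ Z, z * z = 1) (ht : t ∈ M) (hM : M ≤ 𝐍[Z])
    (tr : ∀ z ∈ Z, ∀ z' ∈ Z, z ≠ 1 → z' ≠ 1 → ∃ k : ℕ, t ^ k * z * (t ^ k)⁻¹ = z')
    (bor : ∀ g ∈ M, ∃ k : ℕ, ∀ z ∈ Z, g * z * g⁻¹ = t ^ k * z * (t ^ k)⁻¹)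
    (uZ : u ∈ 𝐍[Z]) (uM : u ∈ 𝐍[M]) (wZ : w ∈ 𝐍[Z]) (wM : w ∈ 𝐍[M]) (u2 : u * u = 1)
    (w2 : w * w = 1) (hc : Commute u w) : u ∈ 𝐂[Z] ∨ w ∈ 𝐂[Z] ∨ u * w ∈ 𝐂[Z] := by
  have sq : ∀ z : Z, z * z = 1 := fun z => Subtype.ext (hZ z z.2)
  letI : CommGroup Z := { (inferInstance : Group Z) with
    mul_comm := fun a b => by
      rw [← inv_eq_of_mul_eq_one_left (sq (a * b)), mul_inv_rev, inv_eq_of_mul_eq_one_left (sq a),
        inv_eq_of_mul_eq_one_left (sq b)] }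
  let ρ : 𝐍[Z] →* AddMonoid.End (Additive Z) :=
    { toFun := fun g => MonoidHom.toAdditive (Z.normalizerMonoidHom g).toMonoidHom
      map_one' := AddMonoidHom.ext fun z => by rw [map_one]; rfl
      map_mul' := fun a b => AddMonoidHom.ext fun z => by rw [map_mul]; rfl }
  have hρ : ∀ (g : 𝐍[Z]) (z : Additive Z), ((ρ g z).toMul : G) = g * z.toMul * g⁻¹ := fun _ _ => rfl
  have ext : ∀ {a b : Additive Z}, (a.toMul : G) = b.toMul → a = b := fun e =>
    Additive.toMul.injective (Subtype.ext e)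
  have h1 : ∀ s (hs : s ∈ 𝐍[Z]), s ∈ 𝐍[M] → ∃ k : ℕ, ρ (⟨s, hs⟩ * ⟨t, hM ht⟩ * ⟨s, hs⟩⁻¹) =
      ρ (⟨t, hM ht⟩ ^ k) := fun s hs hs' =>
    (bor _ ((mem_normalizer_iff.1 hs' t).1 ht)).imp fun k hk =>
      AddMonoidHom.ext fun z => ext (hk _ z.toMul.2)
  have h2 : ∀ g : 𝐍[Z], ρ g = 1 → g.1 ∈ 𝐂[Z] := fun g e => mem_cent.2 fun z hz => by
    have := hρ g (Additive.ofMul ⟨z, hz⟩)
    rw [e] at this
    exact eq_mul_inv_iff_mul_eq.1 this
  refine (Gal.key ρ (fun v => congrArg Additive.ofMul (sq v.toMul)) (fun v v' hv hv' => ?_)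
    (h1 u uZ uM) (h1 w wZ wM) (Subtype.ext u2) (Subtype.ext w2) (Subtype.ext hc.eq)).imp (h2 _)
    (Or.imp (h2 _) (h2 _))
  exact (tr _ v.toMul.2 _ v'.toMul.2 (fun e => hv (ext e)) fun e => hv' (ext e)).imp fun k hk => ext hk

end Cfsg.Agent.HL
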