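import Mathlib
import Cfsg.Agent.HL.Defs

/-! The projective plane of elation groups: basic facts. -/

set_option autoImplicit false
set_option linter.unusedSectionVars false

namespace Cfsg.Agent.HL

open Subgroup MulAction Cfsg.Agent.TT Cfsg.Agent.Perm Cfsg.Agent.Perm.TT Cfsg.Agent.Loc.Mss
open Cfsg.Agent.OT

universe u v

/-- Counting along a partition into blocks of equal size. -/
theorem ncard_part_a1 {α ι : Type*} [Finite α] [Finite ι] {S : Set α} {I : Set ι} {F : ι → Set α}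
    {m : ℕ} (h1 : ∀ i ∈ I, F i ⊆ S) (h2 : ∀ x ∈ S, ∃ i ∈ I, x ∈ F i)
    (h3 : ∀ i ∈ I, ∀ j ∈ I, ∀ x ∈ F i, x ∈ F j → i = j) (h4 : ∀ i ∈ I, (F i).ncard = m) :
    S.ncard = I.ncard * m := by
  classical
  have e : Nat.card (Σ i : I, F i) = Nat.card S := by
    refine Nat.card_eq_of_bijective (fun p => ⟨p.2.1, h1 _ p.1.2 p.2.2⟩) ⟨?_, ?_⟩
    · rintro ⟨⟨i, hi⟩, ⟨x, hx⟩⟩ ⟨⟨j, hj⟩, ⟨y, hy⟩⟩ e
      have e' : x = y := congrArg Subtype.val e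
      subst e'
      have := h3 i hi j hj x hx hy
      subst this
      rfl
    · rintro ⟨x, hx⟩
      obtain ⟨i, hi, hx'⟩ := h2 x hx
      exact ⟨⟨⟨i, hi⟩, ⟨x, hx'⟩⟩, rfl⟩
  have := Fintype.ofFinite I
  rw [← Nat.card_coe_set_eq, ← e, Nat.card_sigma, ← Nat.card_coe_set_eq,
    Finset.sum_congr rfl (g := fun _ => m) fun i _ => by rw [Nat.card_coe_set_eq, h4 _ i.2]]
  simp

variable {G : Type u} [Group G] [Finite G] {N A A' B B' : Subgroup G} {q : ℕ}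
  {P L : Set (Subgroup G)} {g g' : G}

theorem ncard_sharp_a1 (A : Subgroup G) : ((A : Set G) \ {1}).ncard = Nat.card A - 1 := by
  rw [Set.ncard_sdiff_singleton_of_mem A.one_mem]
  rfl

omit [Finite G] in
theorem Tp.mul (h : Tp P L g) (h' : Tp P L g') : Tp P L (g * g') :=
  ⟨fun A hA => by rw [← cj_cj]; exact h.1 _ (h'.1 A hA),
    fun A hA => by rw [← cj_cj]; exact h.2 _ (h'.2 A hA)⟩

omit [Finite G] in
theorem Sw.mul (h : Sw P L g) (h' : Sw P L g') : Tp P L (g * g') :=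
  ⟨fun A hA => by rw [← cj_cj]; exact h.2 _ (h'.1 A hA),
    fun A hA => by rw [← cj_cj]; exact h.1 _ (h'.2 A hA)⟩

omit [Finite G] in
theorem Sing.cj {A₁ : Subgroup G} {t n : G} (h : Sing N q L A B A₁ t) (hn : n ∈ N)
    (hL : ∀ B ∈ L, cj(n, B) ∈ L) : Sing N q L cj(n, A) cj(n, B) cj(n, A₁) (n * t * n⁻¹) where
  inc := inc_cj.2 h.inc
  off := fun e => h.off (inc_cj.1 e)
  mem := cj_Lp_le hL (conj_mem_cj h.mem)
  nB := by rw [← cj_norm]; exact conj_mem_cj h.nB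
  nA := by rw [← cj_norm]; exact conj_mem_cj h.nA
  tr := by
    intro z hz z' hz' z1 z1'
    rw [← cj_inf, mem_cj] at hz hz'
    obtain ⟨k, hk⟩ := h.tr _ hz _ hz' (fun e => z1 (by
      calc z = n * (n⁻¹ * z * n) * n⁻¹ := by group
        _ = 1 := by rw [e]; group)) (fun e => z1' (by
      calc z' = n * (n⁻¹ * z' * n) * n⁻¹ := by group
        _ = 1 := by rw [e]; group))
    refine ⟨k, ?_⟩
    rw [conj_pow]
    calc _ = n * (t ^ k * (n⁻¹ * z * n) * (t ^ k)⁻¹) * n⁻¹ := by group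
      _ = z' := by rw [hk]; group
  bor := by
    intro g hg h1 h2
    rw [← cj_norm, mem_cj] at h1 h2
    obtain ⟨k, hk⟩ := h.bor _ (N.mul_mem (N.mul_mem (N.inv_mem hn) hg) hn) h1 h2
    refine ⟨k, fun z hz => ?_⟩
    rw [← cj_inf, mem_cj] at hz
    rw [conj_pow]
    calc g * z * g⁻¹ = n * (n⁻¹ * g * n * (n⁻¹ * z * n) * (n⁻¹ * g * n)⁻¹) * n⁻¹ := by group
      _ = _ := by rw [hk _ hz]; group
  par := by
    rcases h.par with h1 | ⟨u, hu, c, hc, h1, h2, h3⟩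
    · exact Or.inl h1
    refine Or.inr ⟨n * u * n⁻¹, cj_Lp_le hL (conj_mem_cj hu), c, hc, ?_, ?_, ?_⟩
    · have e : n * u * n⁻¹ * c = n * (u * c) * n⁻¹ := by
        have := mem_cent.1 hc _ (N.inv_mem hn)
        rw [mul_assoc, this]
        group
      rw [e]
      exact cj_Lp_le hL (conj_mem_cj h1)
    · rw [← cj_norm]; exact conj_mem_cj h2
    · rw [← cj_inf, ← cj_cent, mem_cj]
      intro e
      apply h3
      simpa [mul_assoc] using e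

omit [Finite G] in
theorem all_cj_a1 {Q Q' : Set (Subgroup G)} (htr : ∀ A ∈ Q, ∀ A' ∈ Q, ∃ n ∈ N, cj(n, A) = A')
    (hc : ∀ A ∈ Q', ∀ n ∈ N, cj(n, A) ∈ Q') (hg : g ∈ 𝐍[N]) (hA : A ∈ Q) (e : cj(g, A) ∈ Q') :
    ∀ A' ∈ Q, cj(g, A') ∈ Q' := by
  intro A' hA'
  obtain ⟨n, hn, rfl⟩ := htr A hA A' hA'
  have : cj(g, cj(n, A)) = cj(g * n * g⁻¹, cj(g, A)) := by
    rw [cj_cj, cj_cj, inv_mul_cancel_right]
  rw [this]
  exact hc _ e _ (conj_mem_of_norm hg hn)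

namespace Pl

variable (h : Pl N q P L)
include h

theorem two_le : 2 ≤ q := by
  obtain ⟨n, hn, rfl⟩ := h.pow
  calc 2 = 2 ^ 1 := rfl
    _ ≤ 2 ^ n := Nat.pow_le_pow_right (by norm_num) hn

theorem comm (hA : A ∈ P) {x y : G} (hx : x ∈ A) (hy : y ∈ A) : Commute x y := by
  have h1 := h.p.sq A hA x hx
  have h2 := h.p.sq A hA y hy
  have h3 := h.p.sq A hA _ (A.mul_mem hx hy)
  calc x * y = (x * y)⁻¹ := eq_inv_of_mul_eq_one_left h3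
    _ = y⁻¹ * x⁻¹ := mul_inv_rev _ _
    _ = y * x := by rw [← eq_inv_of_mul_eq_one_left h1, ← eq_inv_of_mul_eq_one_left h2]

theorem pg (hA : A ∈ P) : IsPGroup 2 A :=
  pg_iff.2 fun x hx => ⟨1, by rw [pow_one, pow_two]; exact h.p.sq A hA x hx⟩

theorem inc_self (hA : A ∈ P) : Inc A A := by
  intro e
  rw [inf_idem] at e
  have h1 := h.p.card A hA
  have h2 := h.two_le
  rw [e, card_bot] at h1
  nlinarith

theorem le_norm (hA : A ∈ P) (hB : B ∈ L) (hi : Inc A B) : B ≤ 𝐍[A] := by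
  intro z hz
  by_cases z1 : z = 1
  · rw [z1]; exact one_mem _
  · exact (h.p.fix A hA B hB z hz z1).2 hi

theorem le_norm' (hA : A ∈ P) (hB : B ∈ L) (hi : Inc A B) : A ≤ 𝐍[B] :=
  h.symm.le_norm hB hA hi.symm

theorem inc_of_comm_a1 (hA : A ∈ P) (hB' : B' ∈ L) {z w : G} (h1 : z ∈ A) (h4 : w ∈ B')
    (z1 : z ≠ 1) (w1 : w ≠ 1) (hc : Commute z w) : Inc A B' := by
  refine (h.p.fix A hA B' hB' w h4 w1).1 (cj_eq_iff.1 ?_)
  refine h.p.ti _ (h.p.conj A hA w (h.l.le B' hB' h4)) _ hA (inc_of ?_ h1 z1)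
  rw [mem_cj, mul_assoc, hc.eq, inv_mul_cancel_left]
  exact h1

/-- Two commuting involutions have the same center or the same axis. -/
theorem eq_or_eq (hA : A ∈ P) (hB : B ∈ L) (hA' : A' ∈ P) (hB' : B' ∈ L) {z w : G} (h1 : z ∈ A)
    (h2 : z ∈ B) (h3 : w ∈ A') (h4 : w ∈ B') (z1 : z ≠ 1) (w1 : w ≠ 1) (hc : Commute z w) :
    A = A' ∨ B = B' :=
  h.p.uniq A hA A' hA' B hB B' hB' (inc_of h1 h2 z1) (h.inc_of_comm_a1 hA' hB h3 h2 w1 z1 hc.symm)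
    (h.inc_of_comm_a1 hA hB' h1 h4 z1 w1 hc) (inc_of h3 h4 w1)

theorem mem_of_comm (hA : A ∈ P) (hB : B ∈ L) {u w : G} (hu : u ∈ A) (hu' : u ∉ B) (hw : w ∈ B)
    (hc : Commute w u) : w ∈ A := by
  by_cases w1 : w = 1
  · rw [w1]; exact one_mem _
  have u1 : u ≠ 1 := fun e => hu' (e ▸ one_mem _)
  obtain ⟨Bu, hBu, h1⟩ := h.l.cov u (h.p.le A hA hu) (h.p.sq A hA u hu) u1
  obtain ⟨Aw, hAw, h2⟩ := h.p.cov w (h.l.le B hB hw) (h.l.sq B hB w hw) w1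
  rcases h.eq_or_eq hA hBu hAw hB hu h1 h2 hw u1 w1 hc.symm with e | e
  · exact e ▸ h2
  · exact absurd (e ▸ h1) hu'

theorem elem {E : Subgroup G} (hE : E ≤ N) (h2 : ∀ x ∈ E, x * x = 1) :
    (∃ A ∈ P, E ≤ A) ∨ ∃ B ∈ L, E ≤ B := by
  have hc : ∀ x ∈ E, ∀ y ∈ E, Commute x y := fun x hx y hy => by
    calc x * y = (x * y)⁻¹ := eq_inv_of_mul_eq_one_left (h2 _ (E.mul_mem hx hy))
      _ = y⁻¹ * x⁻¹ := mul_inv_rev _ _
      _ = y * x := by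
        rw [← eq_inv_of_mul_eq_one_left (h2 x hx), ← eq_inv_of_mul_eq_one_left (h2 y hy)]
  by_cases h0 : ∃ A ∈ P, E ≤ A
  · exact Or.inl h0
  right
  have h1 : ∀ A ∈ P, ∃ x ∈ E, x ∉ A := fun A hA => by
    by_contra hh
    push Not at hh
    exact h0 ⟨A, hA, hh⟩
  obtain ⟨A0, hA0, -⟩ := h.p.sing
  obtain ⟨x, hx, hx'⟩ := h1 A0 hA0
  have x1 : x ≠ 1 := fun e => hx' (e ▸ one_mem _)
  obtain ⟨Ax, hAx, hx1⟩ := h.p.cov x (hE hx) (h2 x hx) x1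
  obtain ⟨Bx, hBx, hx2⟩ := h.l.cov x (hE hx) (h2 x hx) x1
  obtain ⟨y, hy, hy'⟩ := h1 Ax hAx
  have y1 : y ≠ 1 := fun e => hy' (e ▸ one_mem _)
  obtain ⟨Ay, hAy, hy1⟩ := h.p.cov y (hE hy) (h2 y hy) y1
  obtain ⟨By, hBy, hy2⟩ := h.l.cov y (hE hy) (h2 y hy) y1
  have e1 : Bx = By := by
    rcases h.eq_or_eq hAx hBx hAy hBy hx1 hx2 hy1 hy2 x1 y1 (hc x hx y hy) with e | e
    · exact absurd (e ▸ hy1) hy'
    · exact e
  refine ⟨Bx, hBx, fun w hw => ?_⟩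
  by_cases w1 : w = 1
  · rw [w1]; exact one_mem _
  obtain ⟨Aw, hAw, hw1⟩ := h.p.cov w (hE hw) (h2 w hw) w1
  obtain ⟨Bw, hBw, hw2⟩ := h.l.cov w (hE hw) (h2 w hw) w1
  rcases h.eq_or_eq hAx hBx hAw hBw hx1 hx2 hw1 hw2 x1 w1 (hc x hx w hw) with e | e
  · rcases h.eq_or_eq hAy hBy hAw hBw hy1 hy2 hw1 hw2 y1 w1 (hc y hy w hw) with e' | e'
    · exact absurd (by rw [e, ← e']; exact hy1) hy'
    · rw [e1, e']; exact hw2
  · rw [e]; exact hw2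

theorem mem_of_card {E : Subgroup G} (hE : E ≤ N) (h2 : ∀ x ∈ E, x * x = 1)
    (hc : Nat.card E = q ^ 2) : E ∈ P ∨ E ∈ L := by
  rcases h.elem hE h2 with ⟨A, hA, hle⟩ | ⟨A, hA, hle⟩
  · left
    rwa [eq_of_le_of_card_ge hle (by rw [hc, h.p.card A hA])]
  · right
    rwa [eq_of_le_of_card_ge hle (by rw [hc, h.l.card A hA])]

theorem cj_mem_or_a1 (hg : g ∈ 𝐍[N]) (hA : A ∈ P) : cj(g, A) ∈ P ∨ cj(g, A) ∈ L := by
  refine h.mem_of_card (cj_le_of_norm (h.p.le A hA) hg) (fun x hx => ?_)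
    (by rw [card_cj, h.p.card A hA])
  rw [mem_cj] at hx
  calc x * x = g * (g⁻¹ * x * g * (g⁻¹ * x * g)) * g⁻¹ := by group
    _ = 1 := by rw [h.p.sq A hA _ hx]; group

theorem not_same_a1 (hg : g ∈ 𝐍[N]) (hA : A ∈ P) (hB : B ∈ L) (e1 : cj(g, A) ∈ P) :
    cj(g, B) ∉ P := by
  intro e2
  obtain ⟨n, hn, e⟩ := h.p.tr _ e1 _ e2
  have : cj(g⁻¹ * n * g, A) = B := by
    rw [mul_assoc, ← cj_cj, ← cj_cj, e, cj_inv_cj]
  exact h.p.disj B (this ▸ h.p.conj A hA _ (conj_mem_of_norm' hg hn)) hB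

theorem tp_or_sw (hg : g ∈ 𝐍[N]) : Tp P L g ∨ Sw P L g := by
  obtain ⟨A, hA, B, hB, -⟩ := h.p.sing
  rcases h.cj_mem_or_a1 hg hA with e1 | e1 <;> rcases h.symm.cj_mem_or_a1 hg hB with e2 | e2
  · exact Or.inl ⟨all_cj_a1 h.p.tr h.p.conj hg hA e1, all_cj_a1 h.l.tr h.l.conj hg hB e2⟩
  · exact absurd e2 (h.not_same_a1 hg hA hB e1)
  · exact absurd e1 (h.symm.not_same_a1 hg hB hA e2)
  · exact Or.inr ⟨all_cj_a1 h.p.tr h.l.conj hg hA e1, all_cj_a1 h.l.tr h.p.conj hg hB e2⟩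

theorem tp_of_mem (hg : g ∈ N) : Tp P L g :=
  ⟨fun A hA => h.p.conj A hA g hg, fun A hA => h.l.conj A hA g hg⟩

theorem tp_of (hg : g ∈ 𝐍[N]) (hA : A ∈ P) (e : cj(g, A) ∈ P) : Tp P L g :=
  (h.tp_or_sw hg).resolve_right fun hs => h.p.disj _ e (hs.1 A hA)

theorem not_sw (h1 : Tp P L g) : ¬ Sw P L g := by
  obtain ⟨A, hA, -⟩ := h.p.sing
  exact fun hs => h.p.disj _ (h1.1 A hA) (hs.1 A hA)

theorem tp_inv (hg : g ∈ 𝐍[N]) (h1 : Tp P L g) : Tp P L g⁻¹ := by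
  obtain ⟨A, hA, -⟩ := h.p.sing
  exact h.tp_of (inv_mem hg) (h1.1 A hA) (by rwa [cj_inv_cj])

/-- A type preserving element fixing two points fixes the line joining them. -/
theorem norm_join (h1 : Tp P L g) (hA : A ∈ P) (hA' : A' ∈ P) (hne : A ≠ A') (hB : B ∈ L)
    (i1 : Inc A B) (i2 : Inc A' B) (n1 : g ∈ 𝐍[A]) (n2 : g ∈ 𝐍[A']) : g ∈ 𝐍[B] := by
  have j1 : Inc A cj(g, B) := by rw [← cj_of_norm n1]; exact inc_cj.2 i1
  have j2 : Inc A' cj(g, B) := by rw [← cj_of_norm n2]; exact inc_cj.2 i2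
  exact cj_eq_iff.1
    ((h.p.uniq A hA A' hA' _ (h1.2 B hB) B hB j1 j2 i1 i2).resolve_left hne)

theorem ncard_on (hB : B ∈ L) : {A | A ∈ P ∧ Inc A B}.ncard = q + 1 := by
  have e : ((B : Set G) \ {1}).ncard = {A | A ∈ P ∧ Inc A B}.ncard * (q - 1) := by
    refine ncard_part_a1 (F := fun A => ((A ⊓ B : Subgroup G) : Set G) \ {1}) ?_ ?_ ?_ ?_
    · exact fun A _ x hx => ⟨hx.1.2, hx.2⟩
    · rintro x ⟨hx, x1⟩
      obtain ⟨A, hA, hxA⟩ := h.p.cov x (h.l.le B hB hx) (h.l.sq B hB x hx) x1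
      exact ⟨A, ⟨hA, inc_of hxA hx x1⟩, ⟨hxA, hx⟩, x1⟩
    · rintro A hA A' hA' x hx hx'
      exact h.p.ti A hA.1 A' hA'.1 (inc_of hx.1.1 hx'.1.1 hx.2)
    · intro A hA
      rw [ncard_sharp_a1, h.p.inc A hA.1 B hB hA.2]
  rw [ncard_sharp_a1, h.l.card B hB] at e
  have h2 := h.two_le
  obtain ⟨r, rfl⟩ : ∃ r, q = r + 1 := ⟨q - 1, by omega⟩
  have e2 : (r + 1) ^ 2 - 1 = (r + 1 + 1) * r := by
    have : (r + 1) ^ 2 = (r + 1 + 1) * r + 1 := by ring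
    omega
  rw [e2, Nat.add_sub_cancel] at e
  exact (Nat.eq_of_mul_eq_mul_right (by omega) e).symm

theorem ncard_on_a1 (hA : A ∈ P) (hB : B ∈ L) (hi : Inc A B) :
    ({A | A ∈ P ∧ Inc A B} \ {A}).ncard = q := by
  rw [Set.ncard_sdiff_singleton_of_mem (show A ∈ {A | A ∈ P ∧ Inc A B} from ⟨hA, hi⟩),
    h.ncard_on hB, Nat.add_sub_cancel]

theorem ncard_P : P.ncard = q ^ 2 + q + 1 := by
  obtain ⟨A, hA, -⟩ := h.p.sing
  have e : (P \ {A}).ncard = {B | B ∈ L ∧ Inc B A}.ncard * q := by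
    refine ncard_part_a1 (F := fun B => {A | A ∈ P ∧ Inc A B} \ {A}) ?_ ?_ ?_ ?_
    · exact fun B _ x hx => ⟨hx.1.1, hx.2⟩
    · rintro A' ⟨hA', ne⟩
      obtain ⟨B, hB, i1, i2⟩ := h.p.join A' hA' A hA ne
      exact ⟨B, ⟨hB, i2.symm⟩, ⟨hA', i1⟩, ne⟩
    · rintro B hB B' hB' A' h1 h2
      exact (h.p.uniq A' h1.1.1 A hA B hB.1 B' hB'.1 h1.1.2 hB.2.symm h2.1.2
        hB'.2.symm).resolve_left h1.2
    · exact fun B hB => h.ncard_on_a1 hA hB.1 hB.2.symm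
  rw [h.symm.ncard_on hA, Set.ncard_sdiff_singleton_of_mem hA] at e
  have : 0 < P.ncard := (Set.ncard_pos (Set.toFinite _)).2 ⟨A, hA⟩
  have e2 : (q + 1) * q = q ^ 2 + q := by ring
  omega

/-- Another point on the line. -/
theorem exists_ne (hB : B ∈ L) (A A' : Subgroup G) :
    ∃ A'' ∈ P, Inc A'' B ∧ A'' ≠ A ∧ A'' ≠ A' := by
  by_contra hh
  push Not at hh
  have h1 : {A | A ∈ P ∧ Inc A B} ⊆ {A, A'} := fun A'' hA'' => by
    by_cases e : A'' = A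
    · exact Or.inl e
    · exact Or.inr (hh A'' hA''.1 hA''.2 e)
  have h2 := Set.ncard_le_ncard h1
  have h3 : ({A, A'} : Set (Subgroup G)).ncard ≤ 2 :=
    (Set.ncard_insert_le _ _).trans (by rw [Set.ncard_singleton])
  rw [h.ncard_on hB] at h2
  have := h.two_le
  omega

theorem exists_off (hB : B ∈ L) : ∃ A ∈ P, ¬ Inc A B := by
  by_contra hh
  push Not at hh
  have h1 : P ⊆ {A | A ∈ P ∧ Inc A B} := fun A hA => ⟨hA, hh A hA⟩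
  have h2 := Set.ncard_le_ncard h1
  rw [h.ncard_on hB, h.ncard_P] at h2
  have := h.two_le
  nlinarith

/-- `A ⊓ B` is transitive on the other points of another line through `A`. -/
theorem reg_line (hA : A ∈ P) (hB : B ∈ L) (hi : Inc A B) (hB' : B' ∈ L) (hi' : Inc A B')
    (hne : B' ≠ B) {A₁ A₂ : Subgroup G} (h1 : A₁ ∈ P) (h2 : A₂ ∈ P) (i1 : Inc A₁ B')
    (i2 : Inc A₂ B') (n1 : A₁ ≠ A) (n2 : A₂ ≠ A) : ∃ z ∈ A ⊓ B, cj(z, A₁) = A₂ := by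
  have hsub : (fun z => cj(z, A₁)) '' ((A ⊓ B : Subgroup G) : Set G) ⊆
      {A | A ∈ P ∧ Inc A B'} \ {A} := by
    rintro _ ⟨z, hz, rfl⟩
    refine ⟨⟨h.p.conj A₁ h1 z (h.p.le A hA hz.1), ?_⟩, fun e => n1 ?_⟩
    · rw [← cj_of_norm (h.le_norm' hA hB' hi' hz.1)]
      exact inc_cj.2 i1
    · have e' : cj(z, A₁) = cj(z, A) := by rw [cj_of_mem (A := A) hz.1]; exact e
      exact cj_eq_cj.1 e'
  have hinj : Set.InjOn (fun z => cj(z, A₁)) ((A ⊓ B : Subgroup G) : Set G) := by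
    intro z hz z' hz' e
    have e' : cj(z, A₁) = cj(z', A₁) := e
    by_contra ne
    have hn : z'⁻¹ * z ∈ 𝐍[A₁] := by
      rw [← cj_eq_iff, ← cj_cj, e', cj_inv_cj]
    have i3 : Inc A₁ B := (h.p.fix A₁ h1 B hB _ (B.mul_mem (B.inv_mem hz'.2) hz.2)
      (fun e => ne (inv_mul_eq_one.1 e).symm)).1 hn
    rcases h.p.uniq A₁ h1 A hA B' hB' B hB i1 hi' i3 hi with e | e
    exacts [n1 e, hne e]
  have e := Set.eq_of_subset_of_ncard_le hsub (by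
    rw [hinj.ncard_image, h.ncard_on_a1 hA hB' hi']
    exact (h.p.inc A hA B hB hi).ge)
  have : A₂ ∈ (fun z => cj(z, A₁)) '' ((A ⊓ B : Subgroup G) : Set G) := by
    rw [e]; exact ⟨⟨h2, i2⟩, n2⟩
  obtain ⟨z, hz, e⟩ := this
  exact ⟨z, hz, e⟩

theorem reg_off (hB : B ∈ L) (hA : A ∈ P) (hA' : A' ∈ P) (n1 : ¬ Inc A B) (n2 : ¬ Inc A' B) :
    ∃ z ∈ B, cj(z, A) = A' := by
  by_cases e : A = A'
  · exact ⟨1, one_mem _, by rw [cj_one, e]⟩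
  obtain ⟨B', hB', i1, i2⟩ := h.p.join A hA A' hA' e
  have hne : B' ≠ B := fun e => n1 (e ▸ i1)
  obtain ⟨A0, hA0, j1, j2⟩ := h.l.join B' hB' B hB hne
  obtain ⟨z, hz, e⟩ := h.reg_line hA0 hB j2.symm hB' j1.symm hne hA hA' i1 i2
    (fun e => n1 (e ▸ j2.symm)) (fun e => n2 (e ▸ j2.symm))
  exact ⟨z, hz.2, e⟩

theorem flag_tr (hA : A ∈ P) (hB : B ∈ L) (hi : Inc A B) (hA' : A' ∈ P) (hB' : B' ∈ L)
    (hi' : Inc A' B') : ∃ n ∈ N, cj(n, A) = A' ∧ cj(n, B) = B' := by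
  obtain ⟨n, hn, e⟩ := h.p.tr A hA A' hA'
  have hB1 := h.l.conj B hB n hn
  have i1 : Inc cj(n, B) A' := by rw [← e]; exact inc_cj.2 hi.symm
  obtain ⟨B'', hB'', i2, n1, n2⟩ := h.symm.exists_ne hA' cj(n, B) B'
  obtain ⟨A'', hA'', i3, n3, -⟩ := h.exists_ne hB'' A' A'
  obtain ⟨z, hz, e'⟩ := h.symm.reg_line hB'' hA'' i3.symm hA' i2 n3.symm hB1 hB' i1 hi'.symm
    n1.symm n2.symm
  refine ⟨z * n, N.mul_mem (h.l.le _ hB'' hz.1) hn, ?_, ?_⟩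
  · rw [← cj_cj, e, cj_of_norm (h.le_norm hA' hB'' i2.symm hz.1)]
  · rw [← cj_cj, e']

theorem sing (hA : A ∈ P) (hB : B ∈ L) (hi : Inc A B) :
    ∃ A₁ ∈ P, ∃ t, Sing N q L A B A₁ t := by
  obtain ⟨A0, hA0, B0, hB0, A₁, h1, t, hs⟩ := h.p.sing
  obtain ⟨n, hn, rfl, rfl⟩ := h.flag_tr hA0 hB0 hs.inc hA hB hi
  exact ⟨_, h.p.conj A₁ h1 n hn, _, hs.cj hn fun B hB => h.l.conj B hB n hn⟩

theorem Lp_le_N : Lp L A ≤ N := Lp_le.2 fun B hB _ => h.l.le B hB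

theorem Lp_le_norm (hA : A ∈ P) : Lp L A ≤ 𝐍[A] := Lp_le.2 fun _ hB hi => h.le_norm hA hB hi

theorem self_le_Lp (hA : A ∈ P) : A ≤ Lp L A := by
  intro z hz
  by_cases z1 : z = 1
  · rw [z1]; exact one_mem _
  obtain ⟨B, hB, hzB⟩ := h.l.cov z (h.p.le A hA hz) (h.p.sq A hA z hz) z1
  exact le_Lp hB (inc_of hz hzB z1) hzB

/-- A point normalizes no other point. -/
theorem eq_of_le_norm (hA : A ∈ P) (hA' : A' ∈ P) (hn : A ≤ 𝐍[A']) : A = A' := by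
  have key : ∀ B ∈ L, Inc B A → Inc A' B := fun B hB hi => by
    obtain ⟨z, h1, h2, z1⟩ := inc_iff.1 hi
    exact (h.p.fix A' hA' B hB z h1 z1).1 (hn h2)
  obtain ⟨B1, hB1, i1, -, -⟩ := h.symm.exists_ne hA A A
  obtain ⟨B2, hB2, i2, n, -⟩ := h.symm.exists_ne hA B1 B1
  exact (h.p.uniq A hA A' hA' B2 hB2 B1 hB1 i2.symm (key _ hB2 i2) i1.symm
    (key _ hB1 i1)).resolve_right n

theorem not_Lp_le (hA : A ∈ P) (hB : B ∈ L) : ¬ Lp L A ≤ 𝐍[B] := by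
  intro hh
  obtain ⟨B1, hB1, i1, n, -⟩ := h.symm.exists_ne hA B B
  exact n (h.symm.eq_of_le_norm hB1 hB ((le_Lp hB1 i1.symm).trans hh))

theorem not_le_cent : ¬ N ≤ 𝐂[N] := by
  intro hh
  obtain ⟨A, hA, B, hB, -⟩ := h.p.sing
  obtain ⟨A', hA', -, n, -⟩ := h.exists_ne hB A A
  exact n (h.eq_of_le_norm hA' hA ((h.p.le A' hA').trans
    (hh.trans ((cent_anti (h.p.le A hA)).trans (cent_le_norm A)))))

theorem inf_cent : N ⊓ 𝐂[N] = ⊥ :=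
  (h.simple _ inf_le_left (norm_inf le_normalizer (norm_cent le_normalizer))).resolve_right
    fun e => h.not_le_cent (inf_eq_left.1 e)

end Pl

end Cfsg.Agent.HL
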