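import Mathlib
import Cfsg.Agent.HL.Api1
import Cfsg.Agent.HI.Api

/-! Elations, flags and Sylow 2-subgroups of a group with the structure `Pl`. -/

set_option autoImplicit false

namespace Cfsg.Agent.HL

open Subgroup MulAction Cfsg.Agent.TT Cfsg.Agent.Perm Cfsg.Agent.Perm.TT Cfsg.Agent.Loc.Mss
open Cfsg.Agent.OT

universe u v

variable {G : Type u} [Group G] [Finite G] {N A A' B B' S S' M : Subgroup G} {q : ℕ}
  {P L : Set (Subgroup G)} {g : G}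

set_option linter.unusedSectionVars false

namespace Ap2

/-- A 2-element permuting an odd number of subgroups normalizes one of them. -/
theorem fix_odd {T : Set (Subgroup G)} (hT : ∀ X ∈ T, cj(g, X) ∈ T) (h2 : ∃ k, g ^ 2 ^ k = 1)
    (ho : Odd T.ncard) : ∃ X ∈ T, g ∈ 𝐍[X] := by
  let _ := HI.actS G
  have key : ∀ n : ℕ, ∀ X ∈ T, cj(g ^ n, X) ∈ T := by
    intro n
    induction n with
    | zero => intro X hX; rwa [pow_zero, cj_one]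
    | succ n ih => intro X hX; rw [pow_succ', ← cj_cj]; exact hT _ (ih X hX)
  let U : SubMulAction (zpowers g) (Subgroup G) :=
    { carrier := T
      smul_mem' := fun c X hX => by
        obtain ⟨n, hn⟩ := mem_powers_iff_mem_zpowers.2 c.2
        have := key n X hX
        simp only at hn
        rw [hn] at this
        exact this }
  have h1 : Nat.card U = T.ncard := Nat.card_coe_set_eq T
  have : Finite U := Nat.finite_of_card_ne_zero (by rw [h1]; exact ho.pos.ne')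
  obtain ⟨c, hc⟩ := (HI.pg_zpowers h2).nonempty_fixed_point_of_prime_not_dvd_card U
    (by rw [h1]; exact ho.not_two_dvd_nat)
  exact ⟨c, c.2, cj_eq_iff.1 (congrArg Subtype.val (hc ⟨g, mem_zpowers g⟩))⟩

theorem fix_tw {T : Set (Subgroup G)} (hT : ∀ X ∈ T, cj(g, X) ∈ T) (h2 : Tw q g) (hq : Even q)
    (hc : T.ncard + 1 = q) : ∃ X ∈ T, g ∈ 𝐍[X] := by
  rcases h2 with h2 | h2
  · refine fix_odd hT h2 ?_
    rw [← hc, Nat.even_add_one] at hq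
    exact Nat.not_even_iff_odd.1 hq
  · obtain ⟨X, rfl⟩ := Set.ncard_eq_one.1 (show T.ncard = 1 by omega)
    exact ⟨X, rfl, cj_eq_iff.1 (hT X rfl)⟩

theorem tw_mul {b : G} (hS : IsPGroup 2 S) (hb : b ∈ S) (hn : g ∈ 𝐍[S]) (h2 : Tw q g) :
    Tw q (b * g) :=
  h2.imp_left fun h2 => pg_iff.1 (pg_sup' hS (HI.pg_zpowers h2) (zpowers_le.2 hn)) _
    (mul_mem_sup hb (mem_zpowers g))

theorem ncard_fib {α β : Type*} {F : Set α} {T : Set β} (f : α → β) (hF : F.Finite)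
    (hT : T.Finite) (hf : ∀ a ∈ F, f a ∈ T) {k : ℕ}
    (hk : ∀ b ∈ T, {a | a ∈ F ∧ f a = b}.ncard = k) : F.ncard = T.ncard * k := by
  classical
  rw [Set.ncard_eq_toFinset_card F hF, Set.ncard_eq_toFinset_card T hT,
    Finset.card_eq_sum_card_fiberwise (f := f) (t := hT.toFinset)
      (fun a ha => by simpa using hf a (by simpa using ha)),
    Finset.sum_const_nat (m := k)]
  intro b hb
  rw [← hk b (by simpa using hb), ← Set.ncard_coe_finset]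
  congr 1
  ext a
  simp

theorem norm_cj {x z : G} (hx : x ∈ 𝐍[A]) (hc : Commute z x) : x ∈ 𝐍[cj(z, A)] := by
  rw [← cj_eq_iff, cj_cj, ← hc.eq, ← cj_cj, cj_of_norm hx]

theorem norm_of_cj {x : G} (e : cj(x, cj(g, A)) = A) : x * g ∈ 𝐍[A] := by
  rwa [cj_cj, cj_eq_iff] at e

theorem inc_cj_left (hn : g ∈ 𝐍[B]) : Inc cj(g, A) B ↔ Inc A B := by
  conv_lhs => rw [← cj_of_norm hn]
  exact inc_cj

theorem inc_cj_right (hn : g ∈ 𝐍[A]) : Inc A cj(g, B) ↔ Inc A B := by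
  conv_lhs => rw [← cj_of_norm hn]
  exact inc_cj

theorem inc_inv : Inc cj(g⁻¹, A) B ↔ Inc A cj(g, B) := by
  rw [← inc_cj (g := g), cj_cj_inv]

end Ap2

open Ap2

namespace Pl

variable (h : Pl N q P L)
include h

theorem a2_even : Even q := by
  obtain ⟨n, hn, rfl⟩ := h.pow
  exact (Nat.even_pow' (by omega)).2 even_two

theorem a2_conj {n x : G} (hn : n ∈ N) (hx : ∀ A ∈ P, x ∈ 𝐍[A]) (hA : A ∈ P) :
    n * x * n⁻¹ ∈ 𝐍[A] := by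
  have := hx _ (h.p.conj A hA n⁻¹ (inv_mem hn))
  rwa [← cj_norm, mem_cj, inv_inv] at this

theorem faith (hg : g ∈ 𝐍[N]) (hP : ∀ A ∈ P, g ∈ 𝐍[A]) : g ∈ 𝐂[N] := by
  let K : Subgroup G := N ⊓ ⨅ A ∈ P, 𝐍[A]
  have hK : ∀ x, x ∈ K ↔ x ∈ N ∧ ∀ A ∈ P, x ∈ 𝐍[A] := fun x => by
    simp only [K, mem_inf, mem_iInf]
  have hle : K ≤ N := inf_le_left
  clear_value K
  have h1 : N ≤ 𝐍[K] := norm_of_forall_cj_le fun n hn => cj_le_iff.2 fun x hx => (hK _).2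
    ⟨mul_mem (mul_mem hn (hle hx)) (inv_mem hn), fun A hA => h.a2_conj hn ((hK x).1 hx).2 hA⟩
  rcases h.simple K hle h1 with e | e
  · refine mem_cent.2 fun n hn => ?_
    have : n * g * n⁻¹ * g⁻¹ ∈ K := (hK _).2 ⟨by
      have := mul_mem hn (conj_mem_of_norm hg (inv_mem hn))
      simpa only [mul_assoc] using this, fun A hA =>
        mul_mem (h.a2_conj hn hP hA) (inv_mem (hP A hA))⟩
    rw [e, mem_bot] at this
    exact (commutatorElement_eq_one_iff_mul_comm.1 this)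
  · obtain ⟨B, hB, -⟩ := h.l.sing
    obtain ⟨A, hA, ho⟩ := h.exists_off hB
    obtain ⟨z, hz, -, z1⟩ := inc_iff.1 (h.symm.inc_self hB)
    have := ((hK z).1 (e.ge (h.l.le B hB hz))).2 A hA
    exact absurd ((h.p.fix A hA B hB z hz z1).1 this) ho

/-- If `g` fixes all points of `B` and a point off `B`, it fixes the lines through that point. -/
theorem a2_line (h1 : Tp P L g) (hB : B ∈ L) (hf : ∀ A ∈ P, Inc A B → g ∈ 𝐍[A]) (hA : A ∈ P)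
    (ho : ¬ Inc A B) (hn : g ∈ 𝐍[A]) (hB' : B' ∈ L) (hi : Inc A B') : g ∈ 𝐍[B'] := by
  have hne : B ≠ B' := fun e => ho (e ▸ hi)
  obtain ⟨Y, hY, i1, i2⟩ := h.l.join B hB B' hB' hne
  exact h.norm_join h1 hA hY (fun e => ho (e ▸ i1.symm)) hB' hi i2.symm hn (hf Y hY i1.symm)

theorem a2_off (h1 : Tp P L g) (hB : B ∈ L) (hf : ∀ A ∈ P, Inc A B → g ∈ 𝐍[A]) (hA : A ∈ P)
    (ho : ¬ Inc A B) (hn : g ∈ 𝐍[A]) (hA' : A' ∈ P) (ho' : ¬ Inc A' B) (hn' : g ∈ 𝐍[A'])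
    (hne : A ≠ A') (hB' : B' ∈ L) (hi : Inc A B') (hi' : Inc A' B') {X : Subgroup G} (hX : X ∈ P)
    (hx : ¬ Inc X B') : g ∈ 𝐍[X] := by
  obtain ⟨l, hl, i1, i2⟩ := h.p.join X hX A hA fun e => hx (e ▸ hi)
  obtain ⟨l', hl', i3, i4⟩ := h.p.join X hX A' hA' fun e => hx (e ▸ hi')
  have hll : l ≠ l' := fun e => by
    subst e
    rcases h.p.uniq A hA A' hA' l hl B' hB' i2 i4 hi hi' with e | e
    · exact hne e
    · exact hx (e ▸ i1)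
  exact h.symm.norm_join h1.symm hl hl' hll hX i1.symm i3.symm
    (h.a2_line h1 hB hf hA ho hn hl i2) (h.a2_line h1 hB hf hA' ho' hn' hl' i4)

theorem a2_off' (h1 : Tp P L g) (h2 : Tw q g) (hB : B ∈ L) (hf : ∀ A ∈ P, Inc A B → g ∈ 𝐍[A])
    (hA : A ∈ P) (ho : ¬ Inc A B) (hn : g ∈ 𝐍[A]) (hB' : B' ∈ L) (hi : Inc A B')
    {X : Subgroup G} (hX : X ∈ P) (hx : ¬ Inc X B') : g ∈ 𝐍[X] := by
  have hne : B ≠ B' := fun e => ho (e ▸ hi)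
  obtain ⟨Y, hY, i1, i2⟩ := h.l.join B hB B' hB' hne
  have hAY : A ≠ Y := fun e => ho (e ▸ i1.symm)
  have nB := h.a2_line h1 hB hf hA ho hn hB' hi
  have nY := hf Y hY i1.symm
  obtain ⟨o, ⟨⟨⟨o1, o2⟩, o3⟩, o4⟩, o5⟩ := fix_tw (g := g)
    (T := ({Z | Z ∈ P ∧ Inc Z B'} \ {A}) \ {Y}) (q := q)
    (fun Z hZ => ⟨⟨⟨h1.1 Z hZ.1.1.1, (inc_cj_left nB).2 hZ.1.1.2⟩,
      fun e => hZ.1.2 (cj_eq_cj.1 (Eq.trans e (cj_of_norm hn).symm))⟩,
      fun e => hZ.2 (cj_eq_cj.1 (Eq.trans e (cj_of_norm nY).symm))⟩) h2 h.a2_even (by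
      rw [Set.ncard_sdiff_singleton_add_one (by exact ⟨⟨hY, i2.symm⟩, hAY.symm⟩)]
      have := Set.ncard_sdiff_singleton_add_one (s := {Z | Z ∈ P ∧ Inc Z B'}) (a := A) ⟨hA, hi⟩
      rw [h.ncard_on hB'] at this
      omega)
  refine h.a2_off h1 hB hf hA ho hn o1 (fun io => ?_) o5 (Ne.symm o3) hB' hi o2 hX hx
  rcases h.p.uniq o o1 Y hY B hB B' hB' io i1.symm o2 i2.symm with e | e
  · exact o4 e
  · exact hne e

theorem triv (hg : g ∈ 𝐍[N]) (h2 : Tw q g) (hB : B ∈ L) (hf : ∀ A ∈ P, Inc A B → g ∈ 𝐍[A])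
    (hA : A ∈ P) (ho : ¬ Inc A B) (hn : g ∈ 𝐍[A]) : g ∈ 𝐂[N] := by
  have h1 : Tp P L g := h.tp_of hg hA (by rwa [cj_of_norm hn])
  obtain ⟨l, hl, i1, -⟩ := h.symm.exists_ne hA B B
  obtain ⟨l', hl', i2, hne, -⟩ := h.symm.exists_ne hA l l
  refine h.faith hg fun X hX => ?_
  by_cases x1 : Inc X l
  · by_cases x2 : Inc X l'
    · rcases h.p.uniq X hX A hA l' hl' l hl x2 i2.symm x1 i1.symm with e | e
      · exact e ▸ hn
      · exact absurd e hne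
    · exact h.a2_off' h1 h2 hB hf hA ho hn hl' i2.symm hX x2
  · exact h.a2_off' h1 h2 hB hf hA ho hn hl i1.symm hX x1

/-- Correct `g` by an element of `B` so that it fixes a point off `B`. -/
theorem a2_corr (h1 : Tp P L g) (hB : B ∈ L) (n2 : g ∈ 𝐍[B]) :
    ∃ o ∈ P, ¬ Inc o B ∧ ∃ b ∈ B, b * g ∈ 𝐍[o] := by
  obtain ⟨o, ho, io⟩ := h.exists_off hB
  obtain ⟨b, hb, e⟩ := h.reg_off hB (h1.1 o ho) ho (fun i => io ((inc_cj_left n2).1 i)) io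
  exact ⟨o, ho, io, b, hb, norm_of_cj e⟩

theorem elat (hg : g ∈ 𝐍[N]) (h2 : Tw q g) (hB : B ∈ L) (hf : ∀ A ∈ P, Inc A B → g ∈ 𝐍[A]) :
    ∃ b ∈ B, b * g ∈ 𝐂[N] := by
  obtain ⟨Y, hY, i1, -⟩ := h.exists_ne hB B B
  obtain ⟨Y', hY', i2, hne, -⟩ := h.exists_ne hB Y Y
  have h1 : Tp P L g := h.tp_of hg hY (by rwa [cj_of_norm (hf Y hY i1)])
  have n2 : g ∈ 𝐍[B] := h.norm_join h1 hY' hY hne hB i2 i1 (hf Y' hY' i2) (hf Y hY i1)
  obtain ⟨o, ho, io, b, hb, e⟩ := h.a2_corr h1 hB n2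
  exact ⟨b, hb, h.triv (mul_mem (le_normalizer (h.l.le B hB hb)) hg)
    (tw_mul (h.symm.pg hB) hb n2 h2) hB
    (fun X hX i => mul_mem (h.le_norm hX hB i hb) (hf X hX i)) ho io e⟩

/-- An elation with axis `B'` normalizing another line `B` has its center on both. -/
theorem a2_mem (hA : A ∈ P) (hB : B ∈ L) (hi : Inc A B) (hB' : B' ∈ L) (hi' : Inc A B')
    (hne : B' ≠ B) {z : G} (hz : z ∈ B') (hn : z ∈ 𝐍[B]) : z ∈ A := by
  by_cases z1 : z = 1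
  · exact z1 ▸ one_mem A
  obtain ⟨Y, hY, zY⟩ := h.p.cov z (h.l.le B' hB' hz) (h.l.sq B' hB' z hz) z1
  rcases h.p.uniq A hA Y hY B' hB' B hB hi' (inc_of zY hz z1) hi
    ((h.l.fix B hB Y hY z zY z1).1 hn).symm with e | e
  · exact e ▸ zY
  · exact absurd e hne

theorem f2 (hg : g ∈ 𝐍[N]) (h2 : Tw q g) (hA : A ∈ P) (hB : B ∈ L) (hi : Inc A B)
    (n1 : g ∈ 𝐍[A]) (n2 : g ∈ 𝐍[B]) (hc : g ∈ 𝐂[A ⊓ B]) : ∃ s ∈ A ⊔ B, s * g ∈ 𝐂[N] := by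
  have h1 : Tp P L g := h.tp_of hg hA (by rwa [cj_of_norm n1])
  obtain ⟨o, ho, io, b, hb, e⟩ := h.a2_corr h1 hB n2
  have hAo : A ≠ o := fun e => io (e ▸ hi)
  obtain ⟨l, hl, i1, i2⟩ := h.p.join A hA o ho hAo
  have hlB : l ≠ B := fun e => io (e ▸ i2)
  obtain ⟨b', hb', e'⟩ := h.elat (mul_mem (le_normalizer (h.l.le B hB hb)) hg)
    (tw_mul (h.symm.pg hB) hb n2 h2) hl fun X hX i => by
      by_cases x : X = A
      · exact x ▸ mul_mem (h.le_norm hA hB hi hb) n1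
      obtain ⟨z, hz, rfl⟩ := h.reg_line hA hB hi hl i1 hlB ho hX i2 i hAo.symm x
      exact norm_cj e ((h.symm.comm hB hz.2 hb).mul_right (HI.comm_of_cent hc hz))
  have nb : b' ∈ 𝐍[B] :=
    (Subgroup.mul_mem_cancel_right _ (mul_mem (le_normalizer hb) n2)).1
      (cent_le_norm B (cent_anti (h.l.le B hB) e'))
  exact ⟨b' * b, mul_mem_sup (h.a2_mem hA hB hi hl i1 hlB hb' nb) hb, by rwa [mul_assoc]⟩

theorem pg_sup (hA : A ∈ P) (hB : B ∈ L) (hi : Inc A B) : IsPGroup 2 (A ⊔ B : Subgroup G) :=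
  Cfsg.Agent.Loc.Mss.pg_sup (h.pg hA) (h.symm.pg hB) (h.le_norm' hA hB hi)

theorem card_sup (hA : A ∈ P) (hB : B ∈ L) (hi : Inc A B) :
    Nat.card (A ⊔ B : Subgroup G) = q ^ 3 := by
  have h1 := GT.PG.card_sup_mul_card_inf (h.le_norm' hA hB hi)
  rw [h.p.inc A hA B hB hi, h.p.card A hA, h.l.card B hB] at h1
  have := h.two_le
  exact Nat.eq_of_mul_eq_mul_right (show 0 < q by omega) (h1.trans (by ring))

theorem mem_sup (hA : A ∈ P) (hB : B ∈ L) (hi : Inc A B) {x : G} :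
    x ∈ A ⊔ B ↔ ∃ a ∈ A, ∃ b ∈ B, x = a * b := by
  simp only [mem_sup_norm' (h.le_norm' hA hB hi), eq_comm]

theorem sq_mem (hA : A ∈ P) (hB : B ∈ L) (hi : Inc A B) {x : G} (hx : x ∈ A ⊔ B) :
    x * x ∈ A ⊓ B := by
  obtain ⟨a, ha, b, hb, rfl⟩ := (h.mem_sup hA hB hi).1 hx
  have ea := inv_eq_of_mul_eq_one_right (h.p.sq A hA a ha)
  have eb := inv_eq_of_mul_eq_one_right (h.l.sq B hB b hb)
  refine mem_inf.2 ⟨?_, ?_⟩
  · have := mul_mem ha (conj_mem_of_norm (h.le_norm hA hB hi hb) ha)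
    rw [eb] at this
    simpa only [mul_assoc] using this
  · have := mul_mem (conj_mem_of_norm (h.le_norm' hA hB hi ha) hb) hb
    rw [ea] at this
    simpa only [mul_assoc] using this

theorem mem_or (hA : A ∈ P) (hB : B ∈ L) (hi : Inc A B) {x : G} (hx : x ∈ A ⊔ B)
    (h2 : x * x = 1) : x ∈ A ∨ x ∈ B := by
  obtain ⟨a, ha, b, hb, rfl⟩ := (h.mem_sup hA hB hi).1 hx
  by_cases hab : a ∈ B
  · exact Or.inr (mul_mem hab hb)
  have e := inv_eq_of_mul_eq_one_right h2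
  rw [mul_inv_rev, inv_eq_of_mul_eq_one_right (h.p.sq A hA a ha),
    inv_eq_of_mul_eq_one_right (h.l.sq B hB b hb)] at e
  exact Or.inl (mul_mem ha (h.mem_of_comm hA hB ha hab hb e))

theorem a2_not_le (hA : A ∈ P) (hB : B ∈ L) : ¬ A ≤ B := fun hle =>
  h.p.disj A hA (by rwa [eq_of_le_of_card_ge hle (by rw [h.p.card A hA, h.l.card B hB])])

theorem eq_of_le (hA : A ∈ P) (hB : B ∈ L) (hi : Inc A B) (hA' : A' ∈ P) (hle : A' ≤ A ⊔ B) :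
    A' = A := by
  by_contra hne
  refine h.a2_not_le hA' hB fun x hx => ?_
  rcases h.mem_or hA hB hi (hle hx) (h.p.sq A' hA' x hx) with e | e
  · by_cases x1 : x = 1
    · exact x1 ▸ one_mem B
    · exact absurd (h.p.ti A' hA' A hA (inc_of hx e x1)) hne
  · exact e

theorem a2_mem_of_cent (hA : A ∈ P) (hB : B ∈ L) {b : G} (hb : b ∈ B) (hc : b ∈ 𝐂[A]) :
    b ∈ A := by
  obtain ⟨u, hu, hu'⟩ := SetLike.not_le_iff_exists.1 (h.a2_not_le hA hB)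
  exact h.mem_of_comm hA hB hu hu' hb (HI.comm_of_cent hc hu).symm

theorem a2_le_cent (hA : A ∈ P) : A ≤ 𝐂[A] := fun _ hx => mem_cent.2 fun _ hy => h.comm hA hy hx

theorem Zc_sup (hA : A ∈ P) (hB : B ∈ L) (hi : Inc A B) : HI.Zc (A ⊔ B) = A ⊓ B := by
  refine le_antisymm (fun x hx => ?_) (le_inf (inf_le_left.trans le_sup_left)
    (le_cent_sup (inf_le_left.trans (h.a2_le_cent hA)) (inf_le_right.trans (h.symm.a2_le_cent hB))))
  obtain ⟨a, ha, b, hb, rfl⟩ := (h.mem_sup hA hB hi).1 hx.1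
  have c1 : a * b ∈ 𝐂[A] := cent_anti le_sup_left hx.2
  have c2 : a * b ∈ 𝐂[B] := cent_anti le_sup_right hx.2
  exact ⟨mul_mem ha (h.a2_mem_of_cent hA hB hb
      ((Subgroup.mul_mem_cancel_left _ (h.a2_le_cent hA ha)).1 c1)),
    mul_mem (h.symm.a2_mem_of_cent hB hA ha
      ((Subgroup.mul_mem_cancel_right _ (h.symm.a2_le_cent hB hb)).1 c2)) hb⟩

theorem norm_of_tp (hA : A ∈ P) (hB : B ∈ L) (hi : Inc A B) (h1 : Tp P L g)
    (hn : g ∈ 𝐍[A ⊔ B]) : g ∈ 𝐍[A] ∧ g ∈ 𝐍[B] :=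
  ⟨cj_eq_iff.1 (h.eq_of_le hA hB hi (h1.1 A hA) (cj_le_of_norm le_sup_left hn)),
    cj_eq_iff.1 (h.symm.eq_of_le hB hA hi.symm (h1.2 B hB)
      ((cj_le_of_norm le_sup_right hn).trans (sup_comm A B).le))⟩

theorem cj_of_sw (hA : A ∈ P) (hB : B ∈ L) (hi : Inc A B) (h1 : Sw P L g)
    (hn : g ∈ 𝐍[A ⊔ B]) : cj(g, A) = B ∧ cj(g, B) = A :=
  ⟨h.symm.eq_of_le hB hA hi.symm (h1.1 A hA)
      ((cj_le_of_norm le_sup_left hn).trans (sup_comm A B).le),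
    h.eq_of_le hA hB hi (h1.2 B hB) (cj_le_of_norm le_sup_right hn)⟩

theorem mem_sup_of_norm (hA : A ∈ P) (hB : B ∈ L) (hi : Inc A B) (hg : g ∈ N)
    (h2 : ∃ k, g ^ 2 ^ k = 1) (n1 : g ∈ 𝐍[A]) (n2 : g ∈ 𝐍[B]) : g ∈ A ⊔ B := by
  obtain ⟨A₁, -, t, ht⟩ := h.sing hA hB hi
  obtain ⟨k, hk⟩ := ht.bor g hg n1 n2
  obtain ⟨z₀, hz₀, z1, hc⟩ := HI.exists_comm ((h.pg hA).to_inf_left (K := B)) hi h2
    (norm_inf (zpowers_le.2 n1) (zpowers_le.2 n2) (mem_zpowers g))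
  have e0 : t ^ k * z₀ * (t ^ k)⁻¹ = z₀ := by
    rw [← hk z₀ hz₀, ← hc.eq, mul_inv_cancel_right]
  have hcent : g ∈ 𝐂[A ⊓ B] := mem_cent.2 fun z hz => by
    by_cases hz1 : z = 1
    · rw [hz1, one_mul, mul_one]
    obtain ⟨j, hj⟩ := ht.tr z₀ hz₀ z hz z1 hz1
    have e1 : g * z * g⁻¹ = z := by
      rw [hk z hz, ← hj]
      conv_rhs => rw [← e0]
      have := (Commute.pow_pow_self t k j).eq
      calc t ^ k * (t ^ j * z₀ * (t ^ j)⁻¹) * (t ^ k)⁻¹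
          = t ^ k * t ^ j * z₀ * (t ^ k * t ^ j)⁻¹ := by simp only [mul_inv_rev, mul_assoc]
        _ = t ^ j * t ^ k * z₀ * (t ^ j * t ^ k)⁻¹ := by rw [this]
        _ = _ := by simp only [mul_inv_rev, mul_assoc]
    exact (mul_inv_eq_iff_eq_mul.1 e1).symm
  obtain ⟨s, hs, e⟩ := h.f2 (le_normalizer hg) (Or.inl h2) hA hB hi n1 n2 hcent
  have : s * g ∈ N ⊓ 𝐂[N] := ⟨mul_mem (sup_le (h.p.le A hA) (h.l.le B hB) hs) hg, e⟩
  rw [h.inf_cent, mem_bot] at this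
  rw [eq_inv_of_mul_eq_one_right this]
  exact inv_mem hs

theorem syl (hA : A ∈ P) (hB : B ∈ L) (hi : Inc A B) : Syl 2 (A ⊔ B) N :=
  Syl.of_norm (h.pg_sup hA hB hi) (sup_le (h.p.le A hA) (h.l.le B hB)) fun _ hR _ hN hn x hx =>
    have := h.norm_of_tp hA hB hi (h.tp_of_mem (hN hx)) (hn hx)
    h.mem_sup_of_norm hA hB hi (hN hx) (pg_iff.1 hR x hx) this.1 this.2

theorem flag_of_syl (hS : Syl 2 S N) : ∃ A ∈ P, ∃ B ∈ L, Inc A B ∧ S = A ⊔ B := by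
  obtain ⟨A, hA, B, hB, A₁, -, t, ht⟩ := h.p.sing
  obtain ⟨n, hn, rfl⟩ := (h.syl hA hB ht.inc).conj_eq hS
  exact ⟨_, h.p.conj A hA n hn, _, h.l.conj B hB n hn, inc_cj.2 ht.inc, cj_sup A B n⟩

theorem syl_eq (hS : Syl 2 S N) (hS' : Syl 2 S' N) (hi : Inc (HI.Zc S) (HI.Zc S')) : S = S' := by
  obtain ⟨A, hA, B, hB, i, rfl⟩ := h.flag_of_syl hS
  obtain ⟨A', hA', B', hB', i', rfl⟩ := h.flag_of_syl hS'
  rw [h.Zc_sup hA hB i, h.Zc_sup hA' hB' i'] at hi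
  obtain ⟨z, h1, h2, z1⟩ := inc_iff.1 hi
  rw [h.p.ti A hA A' hA' (inc_of h1.1 h2.1 z1), h.l.ti B hB B' hB' (inc_of h1.2 h2.2 z1)]

theorem ncard_syl : {S | Syl 2 S N}.ncard = (q ^ 2 + q + 1) * (q + 1) := by
  let F : Set (Subgroup G × Subgroup G) := {x | x.1 ∈ P ∧ x.2 ∈ L ∧ Inc x.1 x.2}
  have h1 : {S | Syl 2 S N} = (fun x : Subgroup G × Subgroup G => x.1 ⊔ x.2) '' F := by
    ext S
    constructor
    · intro hS
      obtain ⟨A, hA, B, hB, i, rfl⟩ := h.flag_of_syl hS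
      exact ⟨(A, B), ⟨hA, hB, i⟩, rfl⟩
    · rintro ⟨x, hx, rfl⟩
      exact h.syl hx.1 hx.2.1 hx.2.2
  have h2 : Set.InjOn (fun x : Subgroup G × Subgroup G => x.1 ⊔ x.2) F := fun x hx y hy e =>
    Prod.ext (h.eq_of_le hy.1 hy.2.1 hy.2.2 hx.1 (le_sup_left.trans e.le))
      (h.symm.eq_of_le hy.2.1 hy.1 hy.2.2.symm hx.2.1
        ((le_sup_right.trans e.le).trans (sup_comm _ _).le))
  rw [h1, h2.ncard_image, ← h.symm.ncard_P]
  refine ncard_fib Prod.snd (Set.toFinite _) (Set.toFinite _) (fun x hx => hx.2.1) fun B hB => ?_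
  rw [← h.ncard_on hB, ← Set.ncard_image_of_injective {A | A ∈ P ∧ Inc A B}
    (Prod.mk_left_injective B)]
  refine congrArg Set.ncard (Set.ext fun x => ?_)
  constructor
  · rintro ⟨hx, rfl⟩
    exact ⟨x.1, ⟨hx.1, hx.2.2⟩, rfl⟩
  · rintro ⟨A, hA, rfl⟩
    exact ⟨⟨hA.1, hB, hA.2⟩, rfl⟩

theorem a2_le_of_forall (h2 : M ≤ N) (hP : ∀ X ∈ P, X ≤ M) : M = N := by
  have hle : sSup P ≤ N := sSup_le h.p.le
  have hn : N ≤ 𝐍[sSup P] := norm_of_forall_cj_le fun n hn =>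
    cj_le_iff_le_inv.2 (sSup_le fun X hX => cj_le_iff_le_inv.1 (le_sSup (h.p.conj X hX n hn)))
  rcases h.simple _ hle hn with e | e
  · obtain ⟨A, hA, -⟩ := h.p.sing
    exact absurd (eq_bot_iff.2 (inf_le_left.trans ((le_sSup hA).trans e.le))) (h.inc_self hA)
  · exact le_antisymm h2 (e.ge.trans (sSup_le hP))

theorem le_norm_or (hA : A ∈ P) (hB : B ∈ L) (hi : Inc A B) (h1 : A ⊔ B ≤ M) (h2 : M ≤ N)
    (h3 : M ≠ N) : M ≤ 𝐍[A] ∨ M ≤ 𝐍[B] := by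
  by_contra hc
  obtain ⟨c1, c2⟩ := not_or.1 hc
  obtain ⟨m₁, hm₁, n₁⟩ := SetLike.not_le_iff_exists.1 c1
  obtain ⟨m₂, hm₂, n₂⟩ := SetLike.not_le_iff_exists.1 c2
  have hAM : A ≤ M := le_sup_left.trans h1
  have hBM : B ≤ M := le_sup_right.trans h1
  let O : Subgroup G → Prop := fun X => ∃ m ∈ M, cj(m, A) = X
  have oA : O A := ⟨1, one_mem M, cj_one A⟩
  have oP : ∀ X, O X → X ∈ P := by
    rintro _ ⟨m, hm, rfl⟩
    exact h.p.conj A hA m (h2 hm)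
  have oM : ∀ X, O X → X ≤ M := by
    rintro _ ⟨m, hm, rfl⟩
    exact cj_le_of_mem hAM hm
  have oc : ∀ X, O X → ∀ m ∈ M, O cj(m, X) := by
    rintro _ ⟨m, hm, rfl⟩ k hk
    exact ⟨k * m, mul_mem hk hm, (cj_cj A m k).symm⟩
  have o1 : O cj(m₁, A) := ⟨m₁, hm₁, rfl⟩
  clear_value O
  -- two points moved onto `B` by `m₂⁻¹` and on `B` coincide
  have two : ∀ X ∈ P, ∀ Y ∈ P, Inc X B → Inc Y B → Inc cj(m₂⁻¹, X) B → Inc cj(m₂⁻¹, Y) B →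
      X = Y := fun X hX Y hY i1 i2 i3 i4 =>
    (h.p.uniq X hX Y hY _ (h.l.conj B hB m₂ (h2 hm₂)) B hB (inc_inv.1 i3) (inc_inv.1 i4)
      i1 i2).resolve_right fun e => n₂ (cj_eq_iff.1 e)
  obtain ⟨X, oX, iX⟩ : ∃ X, O X ∧ ¬ Inc X B := by
    by_contra hh
    push Not at hh
    exact n₁ (cj_eq_iff.1 (two _ (oP _ o1) A hA (hh _ o1) hi (hh _ (oc _ o1 _ (inv_mem hm₂)))
      (hh _ (oc _ oA _ (inv_mem hm₂)))))
  have off : ∀ Y ∈ P, ¬ Inc Y B → O Y := fun Y hY iY => by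
    obtain ⟨z, hz, rfl⟩ := h.reg_off hB (oP X oX) hY iX iY
    exact oc X oX z (hBM hz)
  obtain ⟨Z, oZ, iZ, nZ⟩ : ∃ Z, O Z ∧ Inc Z B ∧ Z ≠ A := by
    by_contra hh
    push Not at hh
    obtain ⟨Y₁, y1, i1, e1, -⟩ := h.exists_ne hB A A
    obtain ⟨Y₂, y2, i2, e2, e3⟩ := h.exists_ne hB A Y₁
    have key : ∀ Y ∈ P, Inc Y B → Y ≠ A → Inc cj(m₂⁻¹, Y) B := fun Y hY iY eY => by
      by_contra hn
      have := oc _ (off _ (h.p.conj Y hY _ (inv_mem (h2 hm₂))) hn) m₂ hm₂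
      rw [cj_cj_inv] at this
      exact eY (hh Y this iY)
    exact e3 (two Y₂ y2 Y₁ y1 i2 i1 (key Y₂ y2 i2 e2) (key Y₁ y1 i1 e1))
  refine h3 (h.a2_le_of_forall h2 fun Y hY => oM Y ?_)
  by_cases iY : Inc Y B
  · by_cases eY : Y = A
    · exact eY ▸ oA
    obtain ⟨l, hl, il, el, -⟩ := h.symm.exists_ne hA B B
    obtain ⟨z, hz, rfl⟩ := h.reg_line hA hl il.symm hB hi el.symm (oP Z oZ) hY iZ iY nZ eY
    exact oc Z oZ z (hAM hz.1)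
  · exact off Y hY iY

theorem Lp_le_of (hA : A ∈ P) (hB : B ∈ L) (hi : Inc A B) (h1 : B ≤ M) (h2 : M ≤ N)
    (h3 : M ≤ 𝐍[A]) (h4 : ¬ M ≤ 𝐍[B]) : Lp L A ≤ M := by
  obtain ⟨m, hm, n⟩ := SetLike.not_le_iff_exists.1 h4
  refine Lp_le.2 fun l hl il => ?_
  by_cases e : l = B
  · exact e ▸ h1
  obtain ⟨Y, hY, iY, eY, -⟩ := h.exists_ne hB A A
  obtain ⟨z, hz, rfl⟩ := h.symm.reg_line hB hY iY.symm hA hi.symm eY.symm
    (h.l.conj B hB m (h2 hm)) hl ((inc_cj_right (h3 hm)).2 hi).symm il.symm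
    (fun e => n (cj_eq_iff.1 e)) e
  exact cj_le_of_mem (cj_le_of_mem h1 hm) (h1 hz.1)

end Pl

end Cfsg.Agent.HL
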