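import Mathlib
import Cfsg.Agent.HL.Api2
import Cfsg.Agent.HL.Gal

/-! An elementary abelian group of order `q ^ 2` normalizing `N` lies in `N`. -/

set_option autoImplicit false
set_option linter.unusedSectionVars false

namespace Cfsg.Agent.HL

open Subgroup MulAction Cfsg.Agent.TT Cfsg.Agent.Perm Cfsg.Agent.Perm.TT Cfsg.Agent.Loc.Mss
open Cfsg.Agent.OT

universe u v

variable {G : Type u} [Group G] [Finite G] {N A B E : Subgroup G} {q : ℕ}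
  {P L : Set (Subgroup G)} {g : G}

theorem eq_one_of_odd {C : Subgroup G} (hC : Odd (Nat.card C)) (hg : g ∈ C)
    (h2 : ∃ k, g ^ 2 ^ k = 1) : g = 1 := by
  obtain ⟨k, hk⟩ := h2
  have h1 : orderOf g ∣ 2 ^ k := orderOf_dvd_of_pow_eq_one hk
  have h3 : orderOf g ∣ Nat.card C := C.orderOf_dvd_natCard hg
  exact orderOf_eq_one_iff.1 (Nat.eq_one_of_dvd_coprimes
    (Nat.Coprime.pow_left k (Nat.coprime_two_left.2 hC)) h1 h3)

theorem eq_inv_of_cent_j (hC : Odd (Nat.card 𝐂[N])) {s : G} (hs : s ∈ N) (s2 : ∃ k, s ^ 2 ^ k = 1)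
    (g2 : ∃ k, g ^ 2 ^ k = 1) (hc : s * g ∈ 𝐂[N]) : g = s⁻¹ := by
  obtain ⟨k, hk⟩ := s2
  obtain ⟨l, hl⟩ := g2
  have h1 : Commute s g := by
    have := mem_cent.1 hc s hs
    rw [mul_assoc] at this
    exact mul_left_cancel this
  refine eq_inv_of_mul_eq_one_right (eq_one_of_odd hC hc ⟨k + l, ?_⟩)
  rw [h1.mul_pow, pow_add, pow_mul, hk, one_pow, one_mul, mul_comm, pow_mul, hl, one_pow]

theorem card_le_two_mul_j {K H : Subgroup G} (h : ∀ x ∈ K, ∀ y ∈ K, x ∈ H ∨ y ∈ H ∨ x * y ∈ H) :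
    Nat.card K ≤ 2 * Nat.card (K ⊓ H : Subgroup G) := by
  by_cases h0 : K ≤ H
  · rw [inf_eq_left.2 h0]; omega
  obtain ⟨u, hu, hu'⟩ := SetLike.not_le_iff_exists.1 h0
  have h1 : (K : Set G) ⊆ ((K ⊓ H : Subgroup G) : Set G) ∪
      (fun x => u⁻¹ * x) '' ((K ⊓ H : Subgroup G) : Set G) := by
    intro y hy
    rcases h u hu y hy with e | e | e
    · exact absurd e hu'
    · exact Or.inl ⟨hy, e⟩
    · exact Or.inr ⟨u * y, ⟨K.mul_mem hu hy, e⟩, by simp⟩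
  have h2 := (Set.ncard_le_ncard h1).trans (Set.ncard_union_le _ _)
  rw [Set.ncard_image_of_injective _ (mul_right_injective u⁻¹)] at h2
  rw [two_mul]
  exact h2

theorem two_mul_card_le_j {K H : Subgroup G} (h : H ≤ K) (hne : H ≠ K) :
    2 * Nat.card H ≤ Nat.card K := by
  obtain ⟨m, hm⟩ := card_dvd_of_le h
  have h0 : 0 < Nat.card K := Nat.card_pos
  have h1 : m ≠ 1 := fun e => hne (eq_of_le_of_card_ge h (by rw [hm, e, mul_one]))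
  have h2 : m ≠ 0 := fun e => by rw [e, mul_zero] at hm; omega
  rw [hm, mul_comm]
  exact Nat.mul_le_mul_left _ (by omega)

theorem le_or_le_j {K : Subgroup G} (h : ∀ x ∈ K, x ∈ A ∨ x ∈ B) : K ≤ A ∨ K ≤ B := by
  by_contra hh
  obtain ⟨h1, h2⟩ := not_or.1 hh
  obtain ⟨x, hx, hx'⟩ := SetLike.not_le_iff_exists.1 h1
  obtain ⟨y, hy, hy'⟩ := SetLike.not_le_iff_exists.1 h2
  rcases h _ (K.mul_mem hx hy) with e | e
  · exact hx' ((A.mul_mem_cancel_right ((h y hy).resolve_right hy')).1 e)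
  · exact hy' ((B.mul_mem_cancel_left ((h x hx).resolve_left hx')).1 e)

namespace Pl

variable (h : Pl N q P L) (hC : Odd (Nat.card 𝐂[N]))
include h hC

theorem elat' (hg : g ∈ 𝐍[N]) (h2 : ∃ k, g ^ 2 ^ k = 1) (hB : B ∈ L)
    (hf : ∀ A ∈ P, Inc A B → g ∈ 𝐍[A]) : g ∈ B := by
  obtain ⟨b, hb, hc⟩ := h.elat hg (Or.inl h2) hB hf
  rw [eq_inv_of_cent_j hC (h.l.le B hB hb) (pg_iff.1 (h.symm.pg hB) b hb) h2 hc]
  exact inv_mem hb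

theorem f2' (hg : g ∈ 𝐍[N]) (h2 : ∃ k, g ^ 2 ^ k = 1) (hA : A ∈ P) (hB : B ∈ L) (hi : Inc A B)
    (n1 : g ∈ 𝐍[A]) (n2 : g ∈ 𝐍[B]) (hc : g ∈ 𝐂[A ⊓ B]) : g ∈ A ⊔ B := by
  obtain ⟨s, hs, hc⟩ := h.f2 hg (Or.inl h2) hA hB hi n1 n2 hc
  rw [eq_inv_of_cent_j hC (sup_le (h.p.le A hA) (h.l.le B hB) hs)
    (pg_iff.1 (h.pg_sup hA hB hi) s hs) h2 hc]
  exact inv_mem hs

/-- A type preserving 2-element outside `A` centralizes at most `q` elements of `A`. -/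
theorem card_fix_j (hg : g ∈ 𝐍[N]) (h2 : ∃ k, g ^ 2 ^ k = 1) (ht : Tp P L g) (hA : A ∈ P)
    (hn : g ∉ A) : Nat.card (A ⊓ HI.C1 g : Subgroup G) ≤ q := by
  by_contra hh
  refine hn (h.symm.elat' hC hg h2 hA fun B hB hi => ?_)
  have h1 := GT.CopAct.card_mul_card_le_of_le (X := A ⊓ HI.C1 g) (Y := A ⊓ B) (K := A)
    inf_le_left inf_le_left
  have h3 : A ⊓ HI.C1 g ⊓ (A ⊓ B) ≠ ⊥ := fun e => by
    rw [e, card_bot, h.p.inc A hA B hB hi.symm, h.p.card A hA] at h1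
    have := h.two_le
    nlinarith
  obtain ⟨z, hz, hz', z1⟩ := inc_iff.1 h3
  refine cj_eq_iff.1 (h.l.ti _ (ht.2 B hB) B hB (inc_of ?_ hz'.2 z1))
  rw [mem_cj, mul_assoc, (HI.mem_C1.1 hz.2).eq, inv_mul_cancel_left]
  exact hz'.2

/-- An elementary abelian group of order `q ^ 2` normalizing `N` lies in `N`. -/
theorem le_of_elem (hE : E ≤ 𝐍[N]) (h2 : ∀ x ∈ E, x * x = 1) (hc : Nat.card E = q ^ 2)
    (ht : 4 ≤ q ∨ ∀ e ∈ E, Tp P L e) : E ≤ N := by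
  have p2 : ∀ x ∈ E, ∃ k, x ^ 2 ^ k = 1 := fun x hx => ⟨1, by rw [pow_one, pow_two, h2 x hx]⟩
  have cm : ∀ x ∈ E, ∀ y ∈ E, Commute x y := fun x hx y hy => HI.comm_of_sq h2 hx hy
  obtain ⟨T, hT1, hT⟩ := Syl.exists_ge (L := N ⊔ E) (pg_iff.2 p2) le_sup_right
  have hS := hT.inf le_sup_left (hT.le.trans (sup_le le_normalizer hE))
  obtain ⟨A, hA, B, hB, hi, eS⟩ := h.flag_of_syl hS
  have nS : E ≤ 𝐍[A ⊔ B] := eS ▸ norm_inf (norm_of_le hT1) hE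
  have SN : A ⊔ B ≤ N := sup_le (h.p.le A hA) (h.l.le B hB)
  have SA : A ⊔ B ≤ 𝐍[A] := sup_le le_normalizer (h.le_norm hA hB hi)
  have tp : ∀ e ∈ E ⊓ 𝐍[A], Tp P L e := fun e he =>
    h.tp_of (hE he.1) hA (by rwa [cj_of_norm he.2])
  have nB : E ⊓ 𝐍[A] ≤ 𝐍[B] := fun e he => (h.norm_of_tp hA hB hi (tp e he) (nS he.1)).2
  have nZ : E ⊓ 𝐍[A] ≤ 𝐍[A ⊓ B] := norm_inf inf_le_right nB
  have f2 : ∀ e ∈ E ⊓ 𝐍[A], e ∈ 𝐂[A ⊓ B] → e ∈ A ⊔ B := fun e he =>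
    h.f2' hC (hE he.1) (p2 e he.1) hA hB hi he.2 (nB he)
  have e1 : E ⊓ 𝐍[A] ⊓ (A ⊔ B) = E ⊓ (A ⊔ B) := by rw [inf_assoc, inf_eq_right.2 SA]
  have c1 : Nat.card (E ⊓ 𝐍[A] : Subgroup G) ≤ 2 * Nat.card (E ⊓ (A ⊔ B) : Subgroup G) := by
    rw [← e1]
    refine card_le_two_mul_j fun u hu w hw => ?_
    obtain ⟨A₁, -, t, hs⟩ := h.sing hA hB hi
    have nM : E ⊓ 𝐍[A] ≤ 𝐍[N ⊓ 𝐍[A] ⊓ 𝐍[B]] :=
      norm_inf (norm_inf (inf_le_left.trans hE) (norm_norm inf_le_right)) (norm_norm nB)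
    rcases gal (Z := A ⊓ B) (M := N ⊓ 𝐍[A] ⊓ 𝐍[B]) (fun z hz => h.p.sq A hA z hz.1)
      ⟨⟨h.Lp_le_N hs.mem, h.Lp_le_norm hA hs.mem⟩, hs.nB⟩
      (norm_inf (inf_le_left.trans inf_le_right) inf_le_right) hs.tr
      (fun g hg => hs.bor g hg.1.1 hg.1.2 hg.2) (nZ hu) (nM hu) (nZ hw) (nM hw) (h2 u hu.1)
      (h2 w hw.1) (cm u hu.1 w hw.1) with e | e | e
    · exact Or.inl (f2 u hu e)
    · exact Or.inr (Or.inl (f2 w hw e))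
    · exact Or.inr (Or.inr (f2 _ (mul_mem hu hw) e))
  have nA : ∀ e ∈ E, Tp P L e → e ∈ 𝐍[A] := fun e he t => (h.norm_of_tp hA hB hi t (nS he)).1
  have c0 : Nat.card E ≤ 2 * Nat.card (E ⊓ 𝐍[A] : Subgroup G) := by
    refine card_le_two_mul_j fun u hu w hw => ?_
    rcases h.tp_or_sw (hE hu) with t1 | t1
    · exact Or.inl (nA u hu t1)
    rcases h.tp_or_sw (hE hw) with t2 | t2
    · exact Or.inr (Or.inl (nA w hw t2))
    exact Or.inr (Or.inr (nA _ (mul_mem hu hw) (t1.mul t2)))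
  have hor : ∀ x ∈ E ⊓ (A ⊔ B), x ∈ A ∨ x ∈ B := fun x hx => h.mem_or hA hB hi hx.2 (h2 x hx.1)
  have cZ := h.p.inc A hA B hB hi
  have q2 := h.two_le
  -- an element of `E ⊓ 𝐍[A]` outside `A ⊔ B`
  have psi : ∀ ψ ∈ E ⊓ 𝐍[A], ψ ∉ A ⊔ B →
      4 ≤ q ∧ 2 * Nat.card (A ⊓ B ⊓ HI.C1 ψ : Subgroup G) ≤ q := by
    intro ψ hψ hn
    have k1 : 2 * Nat.card (A ⊓ B ⊓ HI.C1 ψ : Subgroup G) ≤ q := by
      rw [← cZ]
      refine two_mul_card_le_j inf_le_left fun e => hn (f2 ψ hψ (mem_cent.2 fun z hz => ?_))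
      exact (HI.mem_C1.1 (inf_eq_left.1 e hz)).eq
    obtain ⟨z, hz, z1, hc⟩ := HI.exists_comm ((h.pg hA).to_le (inf_le_left (b := B))) hi
      (p2 ψ hψ.1) (nZ hψ)
    have k2 : 1 < Nat.card (A ⊓ B ⊓ HI.C1 ψ : Subgroup G) :=
      (one_lt_card_iff_ne_bot _).2 (inc_of hz (HI.mem_C1.2 hc) z1)
    exact ⟨by omega, k1⟩
  have cψ : ∀ ψ ∈ E, E ⊓ (A ⊔ B) ≤ HI.C1 ψ := fun ψ hψ x hx => HI.mem_C1.2 (cm x hx.1 ψ hψ)
  by_contra hn
  by_cases hall : E ≤ 𝐍[A]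
  · obtain ⟨ψ, hψ, hψ'⟩ := SetLike.not_le_iff_exists.1 hn
    have hψ0 : ψ ∈ E ⊓ 𝐍[A] := ⟨hψ, hall hψ⟩
    have hψ1 : ψ ∉ A ⊔ B := fun e => hψ' (SN e)
    have k := (psi ψ hψ0 hψ1).1
    have k2 : Nat.card (E ⊓ (A ⊔ B) : Subgroup G) ≤ q := by
      rcases le_or_le_j hor with e | e
      · exact (card_le_of_le (le_inf e (cψ ψ hψ))).trans
          (h.card_fix_j hC (hE hψ) (p2 ψ hψ) (tp ψ hψ0) hA fun e => hψ1 (mem_sup_left e))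
      · exact (card_le_of_le (le_inf e (cψ ψ hψ))).trans
          (h.symm.card_fix_j hC (hE hψ) (p2 ψ hψ) (tp ψ hψ0).symm hB
            fun e => hψ1 (mem_sup_right e))
    rw [inf_eq_left.2 hall, hc] at c1
    nlinarith
  obtain ⟨e, he, he'⟩ := SetLike.not_le_iff_exists.1 hall
  have sw : Sw P L e := (h.tp_or_sw (hE he)).resolve_left fun t => he' (nA e he t)
  have k : 4 ≤ q := ht.resolve_right fun t => he' (nA e he (t e he))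
  obtain ⟨s1, s2⟩ := h.cj_of_sw hA hB hi sw (nS he)
  have hZ : E ⊓ (A ⊔ B) ≤ A ⊓ B := by
    intro x hx
    have e3 : e * x * e⁻¹ = x := by rw [(cm e he x hx.1).eq, mul_inv_cancel_right]
    rcases hor x hx with h1 | h1
    · exact ⟨h1, by rw [← s1, ← e3]; exact conj_mem_cj h1⟩
    · exact ⟨by rw [← s2, ← e3]; exact conj_mem_cj h1, h1⟩
  rw [hc] at c0
  by_cases h0 : E ⊓ 𝐍[A] ≤ A ⊔ B
  · have k2 := card_le_of_le ((le_inf inf_le_left h0).trans hZ)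
    rw [cZ] at k2
    nlinarith
  obtain ⟨ψ, hψ, hψ'⟩ := SetLike.not_le_iff_exists.1 h0
  have k2 := (psi ψ hψ hψ').2
  have k3 := card_le_of_le (le_inf hZ (cψ ψ hψ.1))
  nlinarith

end Pl

end Cfsg.Agent.HL
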