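import Mathlib
import Cfsg.Agent.HL.Defs

/-!
# No doubly transitive group of degree 22 has a two-point stabilizer of order dividing 16
-/

set_option autoImplicit false

namespace Cfsg.Agent.HL

open Subgroup MulAction Cfsg.Agent.TT Cfsg.Agent.Perm Cfsg.Agent.Perm.TT Cfsg.Agent.Loc.Mss
open Cfsg.Agent.OT

universe u v

variable {G : Type u} {X : Type v} [Group G] [Finite G] [MulAction G X] [Finite X]
  {N : X → Subgroup G} {q : ℕ} {P L : Set (Subgroup G)} {A A' B B' S S' : Subgroup G} {x y : X}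

omit [Finite G] [Finite X] in
/-- An element of prime order not dividing the degree fixes a point. -/
theorem eleven_fix {g : G} {p : ℕ} (hp : p.Prime) (hg : orderOf g = p) (hd : ¬ p ∣ Nat.card X) :
    ∃ c : X, g • c = c := by
  have := Fact.mk hp
  have hP : IsPGroup p (zpowers g) := IsPGroup.of_card (n := 1) (by rw [Nat.card_zpowers, hg, pow_one])
  obtain ⟨c, hc⟩ := hP.nonempty_fixed_point_of_prime_not_dvd_card X hd
  exact ⟨c, hc ⟨g, mem_zpowers g⟩⟩

/-- An element whose order is prime to 10 and that normalizes a group of order 11 centralizes it. -/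
theorem eleven_cent {R : Subgroup G} (hR : Nat.card R = 11) {g : 𝐍[R]}
    (hc : (orderOf g).Coprime 10) : (g : G) ∈ 𝐂[R] := by
  have : Fact (Nat.Prime 11) := ⟨by norm_num⟩
  have : IsCyclic R := isCyclic_of_prime_card hR
  have h1 : orderOf (R.normalizerMonoidHom g) ∣ 10 := by
    have := orderOf_dvd_natCard (R.normalizerMonoidHom g)
    rwa [IsCyclic.card_mulAut, hR] at this
  have h2 := orderOf_map_dvd R.normalizerMonoidHom g
  have h3 : R.normalizerMonoidHom g = 1 :=
    orderOf_eq_one_iff.1 (Nat.eq_one_of_dvd_coprimes hc h2 h1)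
  have h4 : g ∈ R.normalizerMonoidHom.ker := h3
  rw [normalizerMonoidHom_ker] at h4
  exact h4

theorem eleven (h : Two G X) (h22 : Nat.card X = 22) (hxy : x ≠ y)
    (h16 : Nat.card (st2 G x y) ∣ 16) : False := by
  have : Fact (Nat.Prime 11) := ⟨by norm_num⟩
  have hG := h.card_eq hxy
  rw [h22] at hG
  obtain ⟨e, he⟩ : ∃ e, Nat.card (st2 G x y) = e := ⟨_, rfl⟩
  rw [he] at hG h16
  have he16 : e ≤ 16 := Nat.le_of_dvd (by norm_num) h16
  obtain ⟨R⟩ : Nonempty (Sylow 11 G) := inferInstance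
  have hR : Nat.card (R : Subgroup G) = 11 := by
    obtain ⟨k, hk⟩ := R.2.exists_card_eq
    have h1 := R.not_dvd_index
    have h2 := (R : Subgroup G).card_mul_index
    have h3 : Nat.card (R : Subgroup G) ∣ Nat.card G := card_subgroup_dvd_card _
    rw [hG] at h2 h3
    rw [hk] at h2 h3 ⊢
    rcases k with _ | _ | k
    · exact (h1 ⟨42 * e, by omega⟩).elim
    · rfl
    · have : 121 ∣ 22 * ((22 - 1) * e) := (Dvd.intro (11 ^ k) (by ring)).trans h3
      interval_cases e <;> omega
  -- a generator of `R` fixes no point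
  obtain ⟨r, hr⟩ := exists_prime_orderOf_dvd_card' (G := (R : Subgroup G)) 11 (by rw [hR])
  have hfree : ∀ c : X, (r : G) • c ≠ c := fun c hc => by
    obtain ⟨d, hd⟩ : ∃ d, c ≠ d := by
      by_cases e : c = x
      exacts [⟨y, e ▸ hxy⟩, ⟨x, e⟩]
    have h1 := (stabilizer G c).orderOf_dvd_natCard (show (r : G) ∈ stabilizer G c from hc)
    rw [Subgroup.orderOf_coe, hr, h.card_stab hd, h.card_st2 hxy hd, h22, he] at h1
    interval_cases e <;> omega
  have hN : ∀ p, p = 3 ∨ p = 7 → ¬ p ∣ Nat.card 𝐍[(R : Subgroup G)] := fun p hp hd => by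
    have pp : p.Prime := by rcases hp with rfl | rfl <;> norm_num
    have := Fact.mk pp
    obtain ⟨g, hg⟩ := exists_prime_orderOf_dvd_card' p hd
    have hc := eleven_cent hR (g := g) (by rw [hg]; rcases hp with rfl | rfl <;> norm_num)
    have hg' : orderOf (g : G) = p := by rw [orderOf_coe, hg]
    obtain ⟨c, gc⟩ := eleven_fix (X := X) pp hg' (by rw [h22]; rcases hp with rfl | rfl <;> norm_num)
    have h2 : (g : G) • (r : G) • c = (r : G) • c :=
      smul_fix_of_commute (show Commute (r : G) (g : G) from hc r r.2) gc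
    have h1 := (st2 G c ((r : G) • c)).orderOf_dvd_natCard (x := g) ⟨gc, h2⟩
    rw [hg', h.card_st2 hxy (hfree c).symm, he] at h1
    have := h1.trans h16
    rcases hp with rfl | rfl <;> omega
  have h1 := card_sylow_modEq_one 11 G
  rw [R.card_eq_index_normalizer] at h1
  have h2 := (𝐍[(R : Subgroup G)]).card_mul_index
  have h3 : Nat.card (R : Subgroup G) ∣ Nat.card 𝐍[(R : Subgroup G)] := card_dvd_of_le le_normalizer
  have h4 := hN 3 (.inl rfl)
  have h5 := hN 7 (.inr rfl)
  rw [hR] at h3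
  obtain ⟨m, hm⟩ := h3
  change (𝐍[(R : Subgroup G)]).index ≡ 1 [MOD 11] at h1
  obtain ⟨n, hn⟩ : ∃ n, (𝐍[(R : Subgroup G)]).index = n := ⟨_, rfl⟩
  rw [hG, hm, hn] at h2
  rw [hn] at h1
  rw [hm] at h4 h5
  have hmn : m * n = 42 * e := by
    have : 11 * (m * n) = 11 * (42 * e) := by rw [← mul_assoc, h2]; ring
    omega
  have hm1 : m = 1 ∧ e = 16 := by
    have a3 : 3 ∣ n := ((Nat.prime_three.dvd_mul).1 (hmn ▸ ⟨14 * e, by ring⟩)).resolve_left
      fun a => h4 (a.mul_left _)
    have a7 : 7 ∣ n := (((by norm_num : Nat.Prime 7).dvd_mul).1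
      (hmn ▸ ⟨6 * e, by ring⟩)).resolve_left fun a => h5 (a.mul_left _)
    obtain ⟨k, rfl⟩ : 21 ∣ n := Nat.Coprime.mul_dvd_of_dvd_of_dvd (m := 3) (n := 7)
      (by norm_num) a3 a7
    have hk : m * k = 2 * e := by
      have : 21 * (m * k) = 21 * (2 * e) := by rw [← mul_left_comm, hmn]; ring
      omega
    have hk32 : k ∣ 32 := (Dvd.intro_left m hk).trans (Nat.mul_dvd_mul_left 2 h16)
    have hle : k ≤ 32 := Nat.le_of_dvd (by norm_num) hk32
    have e0 : e ≠ 0 := by rintro rfl; simp at h16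
    unfold Nat.ModEq at h1
    interval_cases k <;> omega
  obtain ⟨rfl, rfl⟩ := hm1
  have hNR : 𝐍[(R : Subgroup G)] = (R : Subgroup G) :=
    (eq_of_le_of_card_ge le_normalizer (by rw [hm, hR])).symm
  have : IsCyclic (R : Subgroup G) := isCyclic_of_prime_card hR
  have hP : normalizer ((R : Subgroup G) : Set G) ≤ centralizer ((R : Subgroup G) : Set G) := by
    rw [hNR]; exact le_centralizer _
  have hK := (MonoidHom.ker_transferSylow_isComplement' R hP).card_mul_card
  rw [hR, hG] at hK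
  have hK1 : (MonoidHom.transferSylow R hP).ker ≠ ⊥ := fun e => by
    rw [e, card_bot] at hK; omega
  have hT : TwoCount.T1 (MonoidHom.transferSylow R hP).ker (Set.univ : Set X) :=
    ⟨fun _ _ _ _ => trivial, fun c _ d _ => h.normal_trans hK1 c d⟩
  have := hT.card (a := x) trivial
  rw [Set.ncard_univ, h22] at this
  omega

end Cfsg.Agent.HL
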