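import Mathlib
import Cfsg.Agent.HL.Defs

/-! Transport of the plane axioms along a central extension with kernel of exponent three. -/

set_option autoImplicit false
set_option linter.unusedSectionVars false

namespace Cfsg.Agent.HL

open Subgroup MulAction Cfsg.Agent.TT Cfsg.Agent.Perm Cfsg.Agent.Perm.TT Cfsg.Agent.Loc.Mss
open Cfsg.Agent.OT

universe u v

variable {G : Type u} {G' : Type v} [Group G] [Group G'] [Finite G] {N : Subgroup G} {q : ℕ}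
  {P L : Set (Subgroup G)}

namespace MapAux

omit [Finite G]

variable {f : G →* G'} (hk : ∀ c, f c = 1 → c ∈ center G ∧ c ^ 3 = 1)
include hk

theorem inj2 {x y : G} (hx : x * x = 1) (hy : y * y = 1) (e : f x = f y) : x = y := by
  obtain ⟨h1, h2⟩ := hk (x⁻¹ * y) (by rw [map_mul, map_inv, e, inv_mul_cancel])
  obtain ⟨c, rfl⟩ : ∃ c, y = x * c := ⟨x⁻¹ * y, by group⟩
  rw [inv_mul_cancel_left] at h1 h2
  rw [mul_assoc, ← mul_assoc c, ← mem_center_iff.1 h1 x, mul_assoc, ← mul_assoc, hx, one_mul] at hy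
  rw [pow_succ, pow_two, hy, one_mul] at h2
  rw [h2, mul_one]

variable {A B : Subgroup G} (hA : ∀ x ∈ A, x * x = 1) (hB : ∀ x ∈ B, x * x = 1)
include hA

theorem mem {x : G} (hx : x * x = 1) : f x ∈ A.map f ↔ x ∈ A :=
  ⟨fun ⟨y, hy, e⟩ => inj2 hk (hA y hy) hx e ▸ hy, mem_map_of_mem f⟩

theorem card : Nat.card (A.map f) = Nat.card A :=
  (Nat.card_congr (Equiv.ofBijective (fun a : A => (⟨f a, mem_map_of_mem f a.2⟩ : A.map f))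
    ⟨fun a b e => Subtype.ext (inj2 hk (hA _ a.2) (hA _ b.2) (congrArg Subtype.val e)),
      fun ⟨_, a, ha, e⟩ => ⟨⟨a, ha⟩, Subtype.ext e⟩⟩)).symm

theorem ne_one {x : G} (hx : x ∈ A) : f x ≠ 1 ↔ x ≠ 1 :=
  not_congr ⟨fun e => inj2 hk (hA x hx) (mul_one 1) (e.trans (map_one f).symm), fun e => by rw [e, map_one]⟩

include hB

theorem inf : A.map f ⊓ B.map f = (A ⊓ B).map f :=
  le_antisymm (fun _ ⟨⟨x, hx, e⟩, h⟩ => ⟨x, ⟨hx, (mem hk hB (hA x hx)).1 (e ▸ h)⟩, e⟩) (map_inf_le _ _ _)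

theorem eq (e : A.map f = B.map f) : A = B := ext fun x =>
  ⟨fun h => (mem hk hB (hA x h)).1 (e ▸ mem_map_of_mem f h), fun h => (mem hk hA (hB x h)).1 (e ▸ mem_map_of_mem f h)⟩

theorem inc : Inc (A.map f) (B.map f) ↔ Inc A B := by
  rw [inc_iff, inc_iff]
  refine ⟨?_, fun ⟨z, h1, h2, h3⟩ => ⟨f z, mem_map_of_mem f h1, mem_map_of_mem f h2, (ne_one hk hA h1).2 h3⟩⟩
  rintro ⟨_, ⟨z, h1, rfl⟩, h2, h3⟩
  exact ⟨z, h1, (mem hk hB (hA z h1)).1 h2, (ne_one hk hA h1).1 h3⟩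

omit hB in
theorem norm {g : G} : f g ∈ 𝐍[A.map f] ↔ g ∈ 𝐍[A] := by
  rw [← cj_eq_iff, ← cj_eq_iff, ← map_cj]
  refine ⟨eq hk (fun x hx => ?_) hA, fun e => by rw [e]⟩
  have := hA _ (mem_cj.1 hx)
  calc x * x = g * (g⁻¹ * x * g * (g⁻¹ * x * g)) * g⁻¹ := by group
    _ = 1 := by rw [this]; group

omit hB in
theorem cent {g : G} (h : f g ∈ 𝐂[A.map f]) : g ∈ 𝐂[A] := mem_cent.2 fun a ha => by
  have h1 := mem_cent.1 h _ (mem_map_of_mem f ha)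
  have h2 : g * a * g⁻¹ = a := inj2 hk (by
    calc _ = g * (a * a) * g⁻¹ := by group
      _ = 1 := by rw [hA a ha]; group) (hA a ha) (by rw [map_mul, map_mul, ← h1, map_inv, mul_inv_cancel_right])
  exact (mul_inv_eq_iff_eq_mul.1 h2).symm

end MapAux

open MapAux

omit [Finite G] in
theorem Half.map' (h : Half N q P L) (h' : ∀ B ∈ L, ∀ x ∈ B, x * x = 1) (f : G →* G')
    (hk : ∀ c, f c = 1 → c ∈ center G ∧ c ^ 3 = 1) :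
    Half (N.map f) q (Subgroup.map f '' P) (Subgroup.map f '' L) := by
  have lp : ∀ A ∈ P, ∀ x ∈ Lp L A, f x ∈ Lp (Subgroup.map f '' L) (A.map f) := fun A hA =>
    show Lp L A ≤ (Lp (Subgroup.map f '' L) (A.map f)).comap f from Lp_le.2 fun B hB hi =>
      map_le_iff_le_comap.1 (le_Lp ⟨B, hB, rfl⟩ ((MapAux.inc hk (h.sq A hA) (h' B hB)).2 hi))
  refine ⟨?_, ?_, ?_, ?_, ?_, ?_, ?_, ?_, ?_, ?_, ?_, ?_, ?_⟩
  · rintro _ ⟨A, hA, rfl⟩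
    exact map_mono (h.le A hA)
  · rintro _ ⟨A, hA, rfl⟩ _ ⟨x, hx, rfl⟩
    rw [← map_mul, h.sq A hA x hx, map_one]
  · rintro _ ⟨A, hA, rfl⟩
    rw [MapAux.card hk (h.sq A hA), h.card A hA]
  · rintro _ ⟨A, hA, rfl⟩ _ ⟨n, hn, rfl⟩
    exact ⟨_, h.conj A hA n hn, map_cj f A n⟩
  · rintro _ ⟨A, hA, rfl⟩ _ ⟨A', hA', rfl⟩
    obtain ⟨n, hn, rfl⟩ := h.tr A hA A' hA'
    exact ⟨_, mem_map_of_mem f hn, (map_cj f A n).symm⟩
  · rintro _ ⟨A, hA, rfl⟩ _ ⟨A', hA', rfl⟩ hi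
    rw [h.ti A hA A' hA' ((MapAux.inc hk (h.sq A hA) (h.sq A' hA')).1 hi)]
  · rintro _ ⟨z, hz, rfl⟩ z2 z1
    obtain ⟨h1, h2⟩ := hk (z * z) (by rwa [map_mul])
    have e : f (z * (z * z)) = f z := by rw [map_mul, map_mul, z2, mul_one]
    obtain ⟨A, hA, hz'⟩ := h.cov (z * (z * z)) (mul_mem hz (mul_mem hz hz)) (by rw [← h2, pow_three]; simp only [mul_assoc])
      fun e' => z1 (by rw [← e, e', map_one])
    exact ⟨_, ⟨A, hA, rfl⟩, e ▸ mem_map_of_mem f hz'⟩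
  · rintro _ ⟨A, hA, rfl⟩ _ ⟨A', hA', rfl⟩ hne
    obtain ⟨B, hB, h1, h2⟩ := h.join A hA A' hA' fun e => hne (by rw [e])
    exact ⟨_, ⟨B, hB, rfl⟩, (MapAux.inc hk (h.sq A hA) (h' B hB)).2 h1, (MapAux.inc hk (h.sq A' hA') (h' B hB)).2 h2⟩
  · rintro _ ⟨A, hA, rfl⟩ _ ⟨A', hA', rfl⟩ _ ⟨B, hB, rfl⟩ _ ⟨B', hB', rfl⟩ h1 h2 h3 h4
    exact (h.uniq A hA A' hA' B hB B' hB' ((MapAux.inc hk (h.sq A hA) (h' B hB)).1 h1)
      ((MapAux.inc hk (h.sq A' hA') (h' B hB)).1 h2) ((MapAux.inc hk (h.sq A hA) (h' B' hB')).1 h3)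
      ((MapAux.inc hk (h.sq A' hA') (h' B' hB')).1 h4)).imp (congrArg _) (congrArg _)
  · rintro _ ⟨A, hA, rfl⟩ _ ⟨B, hB, rfl⟩ hi
    rw [inf hk (h.sq A hA) (h' B hB), MapAux.card hk (A := A ⊓ B) fun x hx => h.sq A hA x hx.1,
      h.inc A hA B hB ((MapAux.inc hk (h.sq A hA) (h' B hB)).1 hi)]
  · rintro _ ⟨A, hA, rfl⟩ _ ⟨B, hB, rfl⟩ _ ⟨z, hz, rfl⟩ z1
    rw [norm hk (h.sq A hA), MapAux.inc hk (h.sq A hA) (h' B hB)]
    exact h.fix A hA B hB z hz ((ne_one hk (h' B hB) hz).1 z1)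
  · rintro _ ⟨A, hA, rfl⟩ ⟨B, hB, e⟩
    exact h.disj A hA (eq hk (h' B hB) (h.sq A hA) e ▸ hB)
  obtain ⟨A, hA, B, hB, A₁, hA₁, t, s⟩ := h.sing
  have a2 := h.sq A hA
  have b2 := h' B hB
  have z2 : ∀ x ∈ A ⊓ B, x * x = 1 := fun x hx => a2 x hx.1
  refine ⟨_, ⟨A, hA, rfl⟩, _, ⟨B, hB, rfl⟩, _, ⟨A₁, hA₁, rfl⟩, f t, (MapAux.inc hk a2 b2).2 s.inc,
    mt (MapAux.inc hk (h.sq A₁ hA₁) b2).1 s.off, lp A hA t s.mem, (norm hk b2).2 s.nB, (norm hk (h.sq A₁ hA₁)).2 s.nA,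
    ?_, ?_, s.par.imp_right ?_⟩
  · rw [inf hk a2 b2]
    rintro _ ⟨z, hz, rfl⟩ _ ⟨z', hz', rfl⟩ h1 h2
    obtain ⟨k, e⟩ := s.tr z hz z' hz' ((ne_one hk z2 hz).1 h1) ((ne_one hk z2 hz').1 h2)
    exact ⟨k, by rw [← e, map_mul, map_mul, map_inv, map_pow]⟩
  · rintro _ ⟨g, hg, rfl⟩ h1 h2
    obtain ⟨k, e⟩ := s.bor g hg ((norm hk a2).1 h1) ((norm hk b2).1 h2)
    refine ⟨k, ?_⟩
    rw [inf hk a2 b2]
    rintro _ ⟨z, hz, rfl⟩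
    simpa using congrArg f (e z hz)
  · rintro ⟨u, hu, c, hc, h1, h2, h3⟩
    refine ⟨f u, lp A hA u hu, f c, map_cent_le f (X := zpowers c) (zpowers_le.2 hc)
      (mem_map_of_mem f (mem_zpowers c)), map_mul f u c ▸ lp A₁ hA₁ _ h1, (norm hk b2).2 h2, ?_⟩
    rw [inf hk a2 b2]
    exact mt (cent hk z2) h3

theorem Half.map (h : Half N q P L) (h' : ∀ B ∈ L, ∀ x ∈ B, x * x = 1) (f : G →* G')
    (hk : ∀ c, f c = 1 → c ∈ center G ∧ c ^ 3 = 1) :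
    Half (N.map f) q (Subgroup.map f '' P) (Subgroup.map f '' L) := h.map' h' f hk

theorem Pl.cj (h : Pl N q P L) (g : G) :
    Pl cj(g, N) q ((fun A => cj(g, A)) '' P) ((fun A => cj(g, A)) '' L) := by
  have hk : ∀ c, (MulAut.conj g).toMonoidHom c = 1 → c ∈ center G ∧ c ^ 3 = 1 := fun c hc => by
    rw [(map_eq_one_iff _ (cj_inj g)).1 hc]
    exact ⟨one_mem _, one_pow 3⟩
  refine ⟨h.p.map h.l.sq _ hk, h.l.map h.p.sq _ hk, fun M hM hn => ?_, h.pow⟩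
  rcases h.simple cj(g⁻¹, M) (le_cj_iff_inv_le.1 hM) (by
    rw [← cj_norm]; exact cj_le_iff_le_inv.1 hn) with e | e
  · exact .inl (cj_eq_bot.1 e)
  · exact .inr (by rw [← e, cj_cj_inv])

end Cfsg.Agent.HL
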