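import Mathlib
import Cfsg.Agent.HL.Defs
import Cfsg.Agent.Cl.LinearBasic

/-!
# The elation groups of `SL₃(F)`
-/

set_option autoImplicit false

namespace Cfsg.Agent.HL

open Subgroup Matrix Cfsg.Agent.Loc.Mss
open scoped MatrixGroups

variable {F : Type*} [Field F] {u u' f f' : Fin 3 → F}

/-- The transvection `x ↦ x + (f x) u`. -/
def tv (u f : Fin 3 → F) (h : f ⬝ᵥ u = 0) : SL(3, F) :=
  ⟨1 + vecMulVec u f, by
    simp only [dotProduct, Fin.sum_univ_three] at h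
    simp [det_fin_three, vecMulVec_apply]
    linear_combination h⟩

theorem coe_tv (h : f ⬝ᵥ u = 0) : (tv u f h).1 = 1 + vecMulVec u f := rfl

theorem tv_ext {h : f ⬝ᵥ u = 0} {h' : f' ⬝ᵥ u' = 0} :
    tv u f h = tv u' f' h' ↔ vecMulVec u f = vecMulVec u' f' :=
  Subtype.ext_iff.trans (add_right_inj _)

theorem tv_eq_one {h : f ⬝ᵥ u = 0} : tv u f h = 1 ↔ u = 0 ∨ f = 0 :=
  Subtype.ext_iff.trans ((add_eq_left (a := (1 : Matrix (Fin 3) (Fin 3) F))).trans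
    vecMulVec_eq_zero)

theorem coe_tv_mul (h : f ⬝ᵥ u = 0) (h' : f' ⬝ᵥ u' = 0) (e : f ⬝ᵥ u' = 0) :
    (tv u f h * tv u' f' h').1 = 1 + (vecMulVec u f + vecMulVec u' f') := by
  change (1 + vecMulVec u f) * (1 + vecMulVec u' f') = _
  rw [add_mul, mul_add, mul_add, vecMulVec_mul_vecMulVec, e]
  simp
  abel

theorem dot_conj (g : SL(3, F)) (u f : Fin 3 → F) : (f ᵥ* (g⁻¹).1) ⬝ᵥ (g.1 *ᵥ u) = f ⬝ᵥ u := by
  have : (g⁻¹).1 * g.1 = 1 := congrArg Subtype.val (inv_mul_cancel g)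
  rw [← dotProduct_mulVec, mulVec_mulVec, this, one_mulVec]

theorem conj_tv (g : SL(3, F)) (h : f ⬝ᵥ u = 0) :
    g * tv u f h * g⁻¹ = tv (g.1 *ᵥ u) (f ᵥ* (g⁻¹).1) ((dot_conj g u f).trans h) := by
  have : g.1 * (g⁻¹).1 = 1 := congrArg Subtype.val (mul_inv_cancel g)
  refine Subtype.ext ?_
  change g.1 * (1 + vecMulVec u f) * (g⁻¹).1 = 1 + _
  rw [mul_add, add_mul, mul_one, this, mul_vecMulVec, vecMulVec_mul]

/-- The elations with center `u`. -/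
def Ap (u : Fin 3 → F) : Subgroup SL(3, F) where
  carrier := {g | ∃ f h, g = tv u f h}
  one_mem' := ⟨0, zero_dotProduct _, (tv_eq_one.2 (Or.inr rfl)).symm⟩
  mul_mem' := by
    rintro _ _ ⟨f, h, rfl⟩ ⟨f', h', rfl⟩
    exact ⟨f + f', by rw [add_dotProduct, h, h', add_zero],
      Subtype.ext (by rw [coe_tv_mul h h' h, coe_tv, vecMulVec_add])⟩
  inv_mem' := by
    rintro _ ⟨f, h, rfl⟩
    have h' : -f ⬝ᵥ u = 0 := by rw [neg_dotProduct, h, neg_zero]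
    exact ⟨-f, h', inv_eq_of_mul_eq_one_right
      (Subtype.ext (by rw [coe_tv_mul h h' h, ← vecMulVec_add]; simp))⟩

/-- The elations with axis `f`. -/
def Bl (f : Fin 3 → F) : Subgroup SL(3, F) where
  carrier := {g | ∃ u h, g = tv u f h}
  one_mem' := ⟨0, dotProduct_zero _, (tv_eq_one.2 (Or.inl rfl)).symm⟩
  mul_mem' := by
    rintro _ _ ⟨u, h, rfl⟩ ⟨u', h', rfl⟩
    exact ⟨u + u', by rw [dotProduct_add, h, h', add_zero],
      Subtype.ext (by rw [coe_tv_mul h h' h', coe_tv, add_vecMulVec])⟩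
  inv_mem' := by
    rintro _ ⟨u, h, rfl⟩
    have h' : f ⬝ᵥ -u = 0 := by rw [dotProduct_neg, h, neg_zero]
    exact ⟨-u, h', inv_eq_of_mul_eq_one_right
      (Subtype.ext (by rw [coe_tv_mul h h' h', ← add_vecMulVec]; simp))⟩

theorem tv_mem_Ap (h : f ⬝ᵥ u = 0) : tv u f h ∈ Ap u := ⟨f, h, rfl⟩

theorem tv_mem_Bl (h : f ⬝ᵥ u = 0) : tv u f h ∈ Bl f := ⟨u, h, rfl⟩

theorem prop_of_eq (hu : u ≠ 0) (hf : f ≠ 0) (e : vecMulVec u f = vecMulVec u' f') :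
    ∃ c : F, c ≠ 0 ∧ u = c • u' ∧ f' = c • f := by
  obtain ⟨j, hj⟩ := Function.ne_iff.1 hf
  obtain ⟨i, hi⟩ := Function.ne_iff.1 hu
  have k : ∀ i j, u i * f j = u' i * f' j := fun i j => congrFun (congrFun e i) j
  have h1 : u' i * f' j ≠ 0 := k i j ▸ mul_ne_zero hi hj
  have h2 : ∀ i, u i = f' j / f j * u' i := fun i => by
    have hj' : f j ≠ 0 := hj
    field_simp
    linear_combination k i j
  refine ⟨f' j / f j, div_ne_zero (right_ne_zero_of_mul h1) hj, funext h2, funext fun l => ?_⟩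
  refine mul_left_cancel₀ (left_ne_zero_of_mul h1) ?_
  rw [← k, h2 i, Pi.smul_apply, smul_eq_mul]
  ring

theorem Ap_smul_le (c : F) : Ap (c • u) ≤ Ap u := by
  rintro _ ⟨f, h, rfl⟩
  exact ⟨c • f, by rw [smul_dotProduct, ← dotProduct_smul, h],
    tv_ext.2 (by rw [smul_vecMulVec, vecMulVec_smul])⟩

theorem Ap_smul {c : F} (hc : c ≠ 0) : Ap (c • u) = Ap u :=
  le_antisymm (Ap_smul_le c) (by
    conv_lhs => rw [← inv_smul_smul₀ hc u]
    exact Ap_smul_le _)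

theorem Bl_smul_le (c : F) : Bl (c • f) ≤ Bl f := by
  rintro _ ⟨u, h, rfl⟩
  exact ⟨c • u, by rw [dotProduct_smul, ← smul_dotProduct, h],
    tv_ext.2 (by rw [smul_vecMulVec, vecMulVec_smul])⟩

theorem Bl_smul {c : F} (hc : c ≠ 0) : Bl (c • f) = Bl f :=
  le_antisymm (Bl_smul_le c) (by
    conv_lhs => rw [← inv_smul_smul₀ hc f]
    exact Bl_smul_le _)

theorem prop_of_inc (h : Inc (Ap u) (Ap u')) : ∃ c : F, c ≠ 0 ∧ u = c • u' := by
  obtain ⟨_, ⟨f, h, rfl⟩, ⟨f', h', e⟩, h1⟩ := inc_iff.1 h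
  rw [Ne, tv_eq_one, not_or] at h1
  obtain ⟨c, hc, e, -⟩ := prop_of_eq h1.1 h1.2 (tv_ext.1 e)
  exact ⟨c, hc, e⟩

theorem dot_smul (h : f ⬝ᵥ u = 0) (c : F) : f ⬝ᵥ c • u = 0 := by
  rw [dotProduct_smul, h, smul_zero]

theorem mem_inf (h : f ⬝ᵥ u = 0) {g : SL(3, F)} :
    g ∈ Ap u ⊓ Bl f ↔ ∃ c : F, g = tv (c • u) f (dot_smul h c) := by
  refine ⟨?_, ?_⟩
  · rintro ⟨⟨f', h', rfl⟩, ⟨u', h'', e⟩⟩
    by_cases h1 : u' = 0 ∨ f = 0
    · exact ⟨0, (e.trans (tv_eq_one.2 h1)).trans (tv_eq_one.2 (Or.inl (zero_smul _ _))).symm⟩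
    rw [not_or] at h1
    obtain ⟨c, -, rfl, -⟩ := prop_of_eq h1.1 h1.2 (tv_ext.1 e).symm
    exact ⟨c, e⟩
  · rintro ⟨c, rfl⟩
    exact ⟨Ap_smul_le c (tv_mem_Ap _), tv_mem_Bl _⟩

theorem inc_AB (hu : u ≠ 0) (hf : f ≠ 0) : Inc (Ap u) (Bl f) ↔ f ⬝ᵥ u = 0 := by
  refine ⟨fun h => ?_, fun h => inc_of (tv_mem_Ap h) (tv_mem_Bl h) (by simp [tv_eq_one, hu, hf])⟩
  obtain ⟨_, ⟨f', h', rfl⟩, ⟨u', h'', e⟩, h1⟩ := inc_iff.1 h
  rw [Ne, tv_eq_one, not_or] at h1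
  obtain ⟨c, -, rfl, -⟩ := prop_of_eq h1.1 h1.2 (tv_ext.1 e)
  exact dot_smul h'' c

theorem cj_Ap (g : SL(3, F)) (u : Fin 3 → F) : cj(g, Ap u) = Ap (g.1 *ᵥ u) := by
  have k : ∀ (g : SL(3, F)) u, cj(g, Ap u) ≤ Ap (g.1 *ᵥ u) := fun g u => cj_le_iff.2 (by
    rintro _ ⟨f, h, rfl⟩
    exact conj_tv g h ▸ tv_mem_Ap _)
  refine le_antisymm (k g u) (le_cj_iff_inv_le.2 ((k _ _).trans_eq ?_))
  have : (g⁻¹).1 * g.1 = 1 := congrArg Subtype.val (inv_mul_cancel g)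
  rw [mulVec_mulVec, this, one_mulVec]

theorem cj_Bl (g : SL(3, F)) (f : Fin 3 → F) : cj(g, Bl f) = Bl (f ᵥ* (g⁻¹).1) := by
  have k : ∀ (g : SL(3, F)) f, cj(g, Bl f) ≤ Bl (f ᵥ* (g⁻¹).1) := fun g f => cj_le_iff.2 (by
    rintro _ ⟨u, h, rfl⟩
    exact conj_tv g h ▸ tv_mem_Bl _)
  refine le_antisymm (k g f) (le_cj_iff_inv_le.2 ((k _ _).trans_eq ?_))
  have : (g⁻¹).1 * g.1 = 1 := congrArg Subtype.val (inv_mul_cancel g)
  rw [vecMul_vecMul, inv_inv, this, vecMul_one]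

theorem mulVec_ne (g : SL(3, F)) (hu : u ≠ 0) : g.1 *ᵥ u ≠ 0 := fun e => hu (by
  have : (g⁻¹).1 * g.1 = 1 := congrArg Subtype.val (inv_mul_cancel g)
  rw [← one_mulVec u, ← this, ← mulVec_mulVec, e, mulVec_zero])

theorem exists_dot (hu : u ≠ 0) (c : F) : ∃ f : Fin 3 → F, f ⬝ᵥ u = c := by
  obtain ⟨i, hi⟩ := Function.ne_iff.1 hu
  exact ⟨Pi.single i (c / u i), by rw [single_dotProduct, div_mul_cancel₀ _ hi]⟩

theorem prop_of_cross (hu : u ≠ 0) (hu' : u' ≠ 0) (h : u ⨯₃ u' = 0) :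
    ∃ c : F, c ≠ 0 ∧ u' = c • u := by
  have h1 := mt crossProduct_ne_zero_iff_linearIndependent.2 (not_not.2 h)
  rw [LinearIndependent.pair_iff' hu] at h1
  push Not at h1
  obtain ⟨c, rfl⟩ := h1
  exact ⟨c, left_ne_zero_of_smul hu', rfl⟩

theorem cross_ne (hu : u ≠ 0) (hu' : u' ≠ 0) (h : Ap u ≠ Ap u') : u ⨯₃ u' ≠ 0 := fun e => by
  obtain ⟨c, hc, rfl⟩ := prop_of_cross hu hu' e
  exact h (Ap_smul hc).symm

theorem Ap_inc_self (hu : u ≠ 0) : Inc (Ap u) (Ap u) := by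
  have : ∃ v : Fin 3 → F, u ⨯₃ v ≠ 0 := by
    by_contra h
    push Not at h
    have h0 := congrFun (h ![1, 0, 0])
    have h1 := congrFun (h ![0, 1, 0])
    refine hu (funext fun i => ?_)
    fin_cases i
    · simpa [cross_apply] using h1 2
    · simpa [cross_apply] using h0 2
    · simpa [cross_apply] using h0 1
  obtain ⟨v, hv⟩ := this
  have h : (u ⨯₃ v) ⬝ᵥ u = 0 := by rw [dotProduct_comm, dot_self_cross]
  exact inc_of (tv_mem_Ap h) (tv_mem_Ap h) (by simp [tv_eq_one, hu, hv])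

theorem prop_of_norm {g : SL(3, F)} (hu : u ≠ 0) (hg : g ∈ 𝐍[Ap u]) :
    ∃ c : F, c ≠ 0 ∧ g.1 *ᵥ u = c • u :=
  prop_of_inc (by rw [← cj_Ap, cj_of_norm hg]; exact Ap_inc_self hu)

theorem tv_mulVec (h : f ⬝ᵥ u = 0) (x : Fin 3 → F) : (tv u f h).1 *ᵥ x = x + (f ⬝ᵥ x) • u := by
  rw [coe_tv, add_mulVec, one_mulVec, vecMulVec_mulVec, op_smul_eq_smul]

theorem tv_norm (hu : u ≠ 0) {z : SL(3, F)} (hz : z ∈ Bl f) (h1 : z ≠ 1) :
    z ∈ 𝐍[Ap u] ↔ f ⬝ᵥ u = 0 := by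
  obtain ⟨w, h, rfl⟩ := hz
  refine ⟨fun hn => by_contra fun h0 => ?_, fun e => ?_⟩
  · obtain ⟨c, -, e⟩ := prop_of_norm hu hn
    rw [tv_mulVec] at e
    have e1 := congrArg (f ⬝ᵥ ·) e
    simp only [dotProduct_add, dotProduct_smul, h, smul_eq_mul, mul_zero, add_zero] at e1
    obtain rfl : c = 1 := (mul_right_cancel₀ h0 ((one_mul _).trans e1)).symm
    rw [one_smul, add_eq_left, smul_eq_zero] at e
    exact h1 (tv_eq_one.2 (Or.inl (e.resolve_left h0)))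
  · rw [← cj_eq_iff, cj_Ap, tv_mulVec, e, zero_smul, add_zero]

theorem exists_cj_Ap (hu : u ≠ 0) (hu' : u' ≠ 0) : ∃ g : SL(3, F), cj(g, Ap u) = Ap u' := by
  by_cases h : Ap u = Ap u'
  · exact ⟨1, by rw [cj_one, h]⟩
  obtain ⟨v, hv⟩ := exists_dot (cross_ne hu hu' h) 1
  have h0 : (v ⨯₃ (u - u')) ⬝ᵥ (u' - u) = 0 := by
    rw [← neg_sub u u', dotProduct_neg, dotProduct_comm, dot_cross_self, neg_zero]
  have h1 : (v ⨯₃ (u - u')) ⬝ᵥ u = 1 := by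
    rw [← hv]
    simp [cross_apply, dotProduct, Fin.sum_univ_three]
    ring
  exact ⟨tv _ _ h0, by rw [cj_Ap, tv_mulVec, h1, one_smul, add_sub_cancel]⟩

theorem uniq_aux (hu : u ≠ 0) (hu' : u' ≠ 0) (hne : Ap u ≠ Ap u') (hf : f ≠ 0)
    (h1 : f ⬝ᵥ u = 0) (h2 : f ⬝ᵥ u' = 0) : Bl f = Bl (u ⨯₃ u') := by
  obtain ⟨c, hc, e⟩ := prop_of_cross hf (cross_ne hu hu' hne) (by
    rw [cross_cross_eq_smul_sub_smul', h2, dotProduct_comm, h1]; simp)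
  rw [e, Bl_smul hc]

theorem card_Ap [Finite F] (hu : u ≠ 0) : Nat.card (Ap u) = Nat.card F ^ 2 := by
  let φ : (Fin 3 → F) →+ F := AddMonoidHom.mk' (· ⬝ᵥ u) fun a b => add_dotProduct a b u
  have h1 := φ.ker.card_mul_index
  rw [AddSubgroup.index_ker, (AddMonoidHom.range_eq_top (f := φ)).2 (exists_dot hu),
    AddSubgroup.card_top, Nat.card_fun, Nat.card_fin, pow_succ] at h1
  rw [← Nat.eq_of_mul_eq_mul_right Nat.card_pos h1]
  refine (Nat.card_congr (Equiv.ofBijective (fun f : φ.ker => (⟨tv u f f.2, tv_mem_Ap _⟩ : Ap u))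
    ⟨fun a b e => Subtype.ext ?_, ?_⟩)).symm
  · have := (tv_ext (h := a.2) (h' := b.2)).1 (congrArg Subtype.val e)
    rw [← sub_eq_zero, ← vecMulVec_sub, vecMulVec_eq_zero, sub_eq_zero] at this
    exact this.resolve_left hu
  · rintro ⟨_, f, h, rfl⟩
    exact ⟨⟨f, h⟩, rfl⟩

theorem tv_smul_inj (hu : u ≠ 0) (hf : f ≠ 0) (h : f ⬝ᵥ u = 0) {a b : F} :
    tv (a • u) f (dot_smul h a) = tv (b • u) f (dot_smul h b) ↔ a = b := by
  rw [tv_ext, ← sub_eq_zero, ← sub_vecMulVec, vecMulVec_eq_zero, ← sub_smul, smul_eq_zero,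
    sub_eq_zero, or_iff_left hf, or_iff_left hu]

theorem card_inf_AB (hu : u ≠ 0) (hf : f ≠ 0) (h : f ⬝ᵥ u = 0) :
    Nat.card (Ap u ⊓ Bl f : Subgroup SL(3, F)) = Nat.card F := by
  refine (Nat.card_congr (Equiv.ofBijective (fun c : F => (⟨_, (mem_inf h).2 ⟨c, rfl⟩⟩ :
    (Ap u ⊓ Bl f : Subgroup SL(3, F)))) ⟨fun a b e => ?_, ?_⟩)).symm
  · exact (tv_smul_inj hu hf h).1 (congrArg Subtype.val e)
  · rintro ⟨g, hg⟩
    obtain ⟨c, rfl⟩ := (mem_inf h).1 hg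
    exact ⟨c, rfl⟩

variable [CharP F 2]

theorem tv_sq (h : f ⬝ᵥ u = 0) : tv u f h * tv u f h = 1 :=
  Subtype.ext (by
    rw [coe_tv_mul h h h, ← vecMulVec_add, show f + f = 0 from
      funext fun i => CharTwo.add_self_eq_zero _]
    simp)

theorem exists_tv {z : SL(3, F)} (hz : z * z = 1) : ∃ u f h, z = tv u f h := by
  have h2 : ∀ M : Matrix (Fin 3) (Fin 3) F, M + M = 0 := fun M => by
    ext i j; exact CharTwo.add_self_eq_zero _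
  obtain ⟨M, hM⟩ : ∃ M, z.1 = 1 + M := ⟨z.1 - 1, by abel⟩
  have h1 : M * M = 0 := by
    have : z.1 * z.1 = 1 := congrArg Subtype.val hz
    rw [hM, add_mul, mul_add, mul_add, one_mul, one_mul, mul_one, add_assoc, ← add_assoc M, h2,
      zero_add, add_eq_left] at this
    exact this
  have h3 : LinearMap.range M.mulVecLin ≤ LinearMap.ker M.mulVecLin := by
    rintro _ ⟨x, rfl⟩
    simp [h1]
  have h4 := Submodule.finrank_mono h3
  have h5 := M.mulVecLin.finrank_range_add_finrank_ker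
  rw [Module.finrank_fin_fun] at h5
  obtain ⟨⟨u, hu⟩, k⟩ := finrank_le_one_iff.1
    (show Module.finrank F (LinearMap.range M.mulVecLin) ≤ 1 by omega)
  choose c hc using fun j => k ⟨_, Pi.single j 1, rfl⟩
  have e : M = vecMulVec u c := by
    ext i j
    have := congrFun (congrArg Subtype.val (hc j)) i
    simp only [SetLike.mk_smul_mk, Pi.smul_apply, smul_eq_mul, mulVecLin_apply, mulVec_single_one,
      col_apply] at this
    rw [vecMulVec_apply, ← this, mul_comm]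
  have h6 : M *ᵥ u = 0 := h3 hu
  rw [e, vecMulVec_mulVec, op_smul_eq_smul, smul_eq_zero] at h6
  rcases h6 with h6 | rfl
  · exact ⟨u, c, h6, Subtype.ext (by rw [hM, e, coe_tv])⟩
  · exact ⟨0, c, dotProduct_zero _, Subtype.ext (by rw [hM, e, coe_tv])⟩

end Cfsg.Agent.HL
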