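import Mathlib
import Cfsg.Agent.HL.Map
import Cfsg.Agent.HL.ModelA

/-!
# `L₃(2ⁿ)` satisfies `Pl`
-/

set_option autoImplicit false

namespace Cfsg.Agent.HL

open Subgroup Matrix Cfsg.Agent.Loc.Mss
open scoped MatrixGroups

universe u

section SL

variable {F : Type*} [Field F]

variable (F) in
/-- The groups of elations with a given center. -/
def PS : Set (Subgroup SL(3, F)) := {A | ∃ u, u ≠ 0 ∧ A = Ap u}

variable (F) in
/-- The groups of elations with a given axis. -/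
def LS : Set (Subgroup SL(3, F)) := {B | ∃ f, f ≠ 0 ∧ B = Bl f}

/-- The basis vectors. -/
def ev (i : Fin 3) : Fin 3 → F := Pi.single i 1

theorem ev_ne (i : Fin 3) : (ev i : Fin 3 → F) ≠ 0 := by simp [ev]

theorem ev_dot {i j : Fin 3} (h : i ≠ j) : (ev i : Fin 3 → F) ⬝ᵥ ev j = 0 := by simp [ev, h]

theorem transvection_mem {i j : Fin 3} (h : i ≠ j) (c : F) :
    Matrix.SpecialLinearGroup.transvection h c ∈ Bl (ev j) :=
  ⟨c • ev i, dot_smul (ev_dot h.symm) c, Subtype.ext (by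
    rw [coe_tv, Matrix.SpecialLinearGroup.transvection_coe]
    congr 1
    ext k l
    simp only [ev, vecMulVec_apply, single_apply, Pi.smul_apply, Pi.single_apply, smul_eq_mul]
    by_cases h1 : k = i <;> by_cases h2 : l = j <;> simp_all [eq_comm])⟩

theorem diag2n_mem {i j k : Fin 3} (h : i ≠ j) (h1 : i ≠ k) (h2 : j ≠ k) (a : F) (ha : a ≠ 0) :
    Matrix.SpecialLinearGroup.diag2n h a ha ∈ Lp (LS F) (Ap (ev k)) := by
  have k1 : ∀ {i j : Fin 3} (h : i ≠ j), j ≠ k → ∀ c : F,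
      Matrix.SpecialLinearGroup.transvection h c ∈ Lp (LS F) (Ap (ev k)) := fun h h' c =>
    le_Lp (show Bl (ev _) ∈ LS F from ⟨_, ev_ne _, rfl⟩) ((inc_AB (ev_ne _) (ev_ne _)).2 (ev_dot h')) (transvection_mem h c)
  rw [Cl.lin_diag2n_decompose]
  exact mul_mem (mul_mem (mul_mem (mul_mem (mul_mem (k1 _ h2 _) (k1 _ h1 _)) (k1 _ h2 _))
    (k1 _ h2 _)) (k1 _ h1 _)) (k1 _ h2 _)

/-- The torus element `diag(a⁻¹, a, 1)`. -/
noncomputable def dg (a : Fˣ) : SL(3, F) :=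
  Matrix.SpecialLinearGroup.diag2n (show (1 : Fin 3) ≠ 0 by decide) a a.ne_zero

theorem coe_dg (a : Fˣ) : (dg a).1 = diagonal ![((a⁻¹ : Fˣ) : F), a, 1] := by
  rw [dg, Matrix.SpecialLinearGroup.diag2n_coe]
  congr 1
  funext k
  fin_cases k <;> simp

theorem dg_mul (a b : Fˣ) : dg (a * b) = dg a * dg b := Subtype.ext (by
  change _ = (dg a).1 * (dg b).1
  rw [coe_dg, coe_dg, coe_dg, diagonal_mul_diagonal]
  congr 1
  funext k
  fin_cases k <;> simp [mul_comm])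

theorem dg_pow (a : Fˣ) (k : ℕ) : dg a ^ k = dg (a ^ k) :=
  (map_pow (MonoidHom.mk' dg dg_mul) a k).symm

theorem dg_inv (a : Fˣ) : (dg a)⁻¹ = dg a⁻¹ := (map_inv (MonoidHom.mk' dg dg_mul) a).symm

theorem dg_two (a : Fˣ) : (dg a).1 *ᵥ ev 2 = (1 : F) • ev 2 := by
  rw [coe_dg]
  funext k
  fin_cases k <;> simp [ev, mulVec_diagonal]

theorem dg_zero (a : Fˣ) : (dg a).1 *ᵥ ev 0 = ((a⁻¹ : Fˣ) : F) • ev 0 := by
  rw [coe_dg]
  funext k
  fin_cases k <;> simp [ev, mulVec_diagonal]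

theorem zero_dg (a : Fˣ) : ev 0 ᵥ* ((dg a)⁻¹).1 = (a : F) • ev 0 := by
  rw [dg_inv, coe_dg]
  funext k
  fin_cases k <;> simp [ev, vecMul_diagonal]

theorem conj_root {g : SL(3, F)} {u f : Fin 3 → F} (h : f ⬝ᵥ u = 0) {a b : F}
    (h1 : g.1 *ᵥ u = a • u) (h2 : f ᵥ* (g⁻¹).1 = b • f) (c : F) :
    g * tv (c • u) f (dot_smul h c) * g⁻¹ = tv ((a * b * c) • u) f (dot_smul h _) := by
  rw [conj_tv, tv_ext, mulVec_smul, h1, h2, vecMulVec_smul, ← smul_vecMulVec, smul_smul, smul_smul]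
  congr 2
  ring

variable [CharP F 2]

variable (F) in
/-- The inverse transpose automorphism. -/
def tau : SL(3, F) →* SL(3, F) where
  toFun g := ⟨(g⁻¹).1ᵀ, by rw [det_transpose, (g⁻¹).2]⟩
  map_one' := Subtype.ext (by rw [inv_one]; exact transpose_one)
  map_mul' g h := Subtype.ext (by rw [_root_.mul_inv_rev]; exact transpose_mul _ _)

omit [CharP F 2] in
theorem tau_injective : Function.Injective (tau F) := fun _ _ e =>
  inv_injective (Subtype.ext (transpose_injective (congrArg Subtype.val e)))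

theorem tau_tv {u f : Fin 3 → F} (h : f ⬝ᵥ u = 0) :
    tau F (tv u f h) = tv f u ((dotProduct_comm _ _).trans h) := Subtype.ext (by
  change ((tv u f h)⁻¹).1ᵀ = _
  rw [inv_eq_of_mul_eq_one_right (tv_sq h), coe_tv, coe_tv, transpose_add, transpose_one,
    transpose_vecMulVec])

theorem map_tau_Ap (u : Fin 3 → F) : (Ap u).map (tau F) = Bl u := by
  ext g
  refine ⟨?_, ?_⟩
  · rintro ⟨_, ⟨f, h, rfl⟩, rfl⟩
    exact tau_tv h ▸ tv_mem_Bl _
  · rintro ⟨f, h, rfl⟩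
    exact ⟨_, tv_mem_Ap ((dotProduct_comm _ _).trans h), tau_tv _⟩

theorem map_tau_Bl (u : Fin 3 → F) : (Bl u).map (tau F) = Ap u := by
  ext g
  refine ⟨?_, ?_⟩
  · rintro ⟨_, ⟨f, h, rfl⟩, rfl⟩
    exact tau_tv h ▸ tv_mem_Ap _
  · rintro ⟨f, h, rfl⟩
    exact ⟨_, tv_mem_Bl ((dotProduct_comm _ _).trans h), tau_tv _⟩

theorem prop_of_norm' {g : SL(3, F)} {f : Fin 3 → F} (hf : f ≠ 0) (hg : g ∈ 𝐍[Bl f]) :
    ∃ c : F, c ≠ 0 ∧ f ᵥ* (g⁻¹).1 = c • f := by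
  have := map_norm_le (tau F) (zpowers_le.2 hg) (mem_map_of_mem _ (mem_zpowers g))
  rw [map_tau_Bl] at this
  obtain ⟨c, hc, e⟩ := prop_of_norm hf this
  exact ⟨c, hc, (mulVec_transpose _ _).symm.trans e⟩

theorem sing_sl [Finite F] {n : ℕ} (hF : Nat.card F = 2 ^ n) : ∃ t,
    Sing (⊤ : Subgroup SL(3, F)) (2 ^ n) (LS F) (Ap (ev 2)) (Bl (ev 0)) (Ap (ev 0)) t := by
  obtain ⟨g, hg⟩ := IsCyclic.exists_monoid_generator (α := Fˣ)
  have h0 : (ev 0 : Fin 3 → F) ⬝ᵥ ev 2 = 0 := ev_dot (by decide)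
  have hd : ∀ (a : Fˣ) (c : F), dg a * tv (c • ev 2) (ev 0) (dot_smul h0 c) * (dg a)⁻¹ =
      tv ((1 * (a : F) * c) • ev 2) (ev 0) (dot_smul h0 _) := fun a =>
    conj_root h0 (dg_two a) (zero_dg a)
  have hm : ∀ a : Fˣ, dg a ∈ Lp (LS F) (Ap (ev 2)) := fun a =>
    diag2n_mem _ (by decide) (by decide) _ _
  have hB : ∀ a : Fˣ, dg a ∈ 𝐍[Bl (ev 0)] := fun a => by
    rw [← cj_eq_iff, cj_Bl, zero_dg, Bl_smul a.ne_zero]
  refine ⟨dg g, (inc_AB (ev_ne _) (ev_ne _)).2 h0,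
    fun h => by simpa [ev] using (inc_AB (ev_ne _) (ev_ne _)).1 h, hm g, hB g,
    by rw [← cj_eq_iff, cj_Ap, dg_zero, Ap_smul (Units.ne_zero _)], fun z hz z' hz' h1 h2 => ?_,
    fun b _ h1 h2 => ?_, ?_⟩
  · obtain ⟨c, rfl⟩ := (mem_inf h0).1 hz
    obtain ⟨c', rfl⟩ := (mem_inf h0).1 hz'
    have hc : c ≠ 0 := fun e => h1 (tv_eq_one.2 (Or.inl (by rw [e, zero_smul])))
    have hc' : c' ≠ 0 := fun e => h2 (tv_eq_one.2 (Or.inl (by rw [e, zero_smul])))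
    obtain ⟨k, hk⟩ := hg (Units.mk0 (c' / c) (div_ne_zero hc' hc))
    refine ⟨k, ?_⟩
    rw [dg_pow, hd, tv_smul_inj (ev_ne _) (ev_ne _) h0, show g ^ k = _ from hk, Units.val_mk0,
      one_mul, div_mul_cancel₀ _ hc]
  · obtain ⟨a, ha, e1⟩ := prop_of_norm (ev_ne _) h1
    obtain ⟨a', ha', e2⟩ := prop_of_norm' (ev_ne _) h2
    obtain ⟨k, hk⟩ := hg (Units.mk0 (a * a') (mul_ne_zero ha ha'))
    refine ⟨k, fun z hz => ?_⟩
    obtain ⟨c, rfl⟩ := (mem_inf h0).1 hz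
    rw [dg_pow, hd, conj_root h0 e1 e2, tv_smul_inj (ev_ne _) (ev_ne _) h0,
      show g ^ k = _ from hk, Units.val_mk0, one_mul]
  · rcases Nat.even_or_odd' n with ⟨m, rfl | rfl⟩
    swap
    · exact Or.inl ⟨_, odd_two_mul_add_one m, rfl⟩
    have := Fact.mk Nat.prime_three
    obtain ⟨w, hw⟩ := exists_prime_orderOf_dvd_card' (G := Fˣ) 3 (by
      rw [Nat.card_units, hF, pow_mul]
      simpa using Nat.sub_dvd_pow_sub_pow 4 1 m)
    have w3 : (w : F) ^ 3 = 1 := by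
      rw [← Units.val_pow_eq_pow_val, ← hw, pow_orderOf_eq_one, Units.val_one]
    have w0 := w.ne_zero
    refine Or.inr ⟨dg w, hm w, ⟨scalar _ (w : F), by simpa using w3⟩, ?_, ?_, hB w, fun h => ?_⟩
    · rw [cent_top]
      exact Matrix.SpecialLinearGroup.mem_center_iff.2 ⟨w, by simpa using w3, rfl⟩
    · convert diag2n_mem (i := 2) (j := 1) (k := 0) (by decide) (by decide) (by decide) _ w0
      refine Subtype.ext ?_
      change (dg w).1 * scalar _ (w : F) = _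
      rw [coe_dg, Matrix.SpecialLinearGroup.diag2n_coe, scalar_apply, diagonal_mul_diagonal]
      congr 1
      funext k
      fin_cases k <;> simp
      field_simp
      exact w3
    · have h1 := mem_cent.1 h _ ((mem_inf h0).2 ⟨1, rfl⟩)
      have h2 := hd w 1
      rw [← h1, mul_inv_cancel_right, tv_smul_inj (ev_ne _) (ev_ne _) h0, one_mul, mul_one] at h2
      rw [Units.val_eq_one.1 h2.symm, orderOf_one] at hw
      omega

theorem half_sl [Finite F] {n : ℕ} (hF : Nat.card F = 2 ^ n) :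
    Half (⊤ : Subgroup SL(3, F)) (2 ^ n) (PS F) (LS F) where
  le _ _ := le_top
  sq := by
    rintro _ ⟨u, -, rfl⟩ _ ⟨f, h, rfl⟩
    exact tv_sq h
  card := by
    rintro _ ⟨u, hu, rfl⟩
    rw [card_Ap hu, hF]
  conj := by
    rintro _ ⟨u, hu, rfl⟩ g -
    exact ⟨_, mulVec_ne g hu, cj_Ap g u⟩
  tr := by
    rintro _ ⟨u, hu, rfl⟩ _ ⟨u', hu', rfl⟩
    exact (exists_cj_Ap hu hu').imp fun g hg => ⟨mem_top g, hg⟩
  ti := by
    rintro _ ⟨u, hu, rfl⟩ _ ⟨u', hu', rfl⟩ h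
    obtain ⟨c, hc, rfl⟩ := prop_of_inc h
    exact Ap_smul hc
  cov z _ h2 h1 := by
    obtain ⟨u, f, h, rfl⟩ := exists_tv h2
    exact ⟨_, ⟨u, fun e => h1 (tv_eq_one.2 (Or.inl e)), rfl⟩, tv_mem_Ap h⟩
  join := by
    rintro _ ⟨u, hu, rfl⟩ _ ⟨u', hu', rfl⟩ h
    have h1 := cross_ne hu hu' h
    exact ⟨_, ⟨_, h1, rfl⟩, (inc_AB hu h1).2 (by rw [dotProduct_comm, dot_self_cross]),
      (inc_AB hu' h1).2 (by rw [dotProduct_comm, dot_cross_self])⟩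
  uniq := by
    rintro _ ⟨u, hu, rfl⟩ _ ⟨u', hu', rfl⟩ _ ⟨f, hf, rfl⟩ _ ⟨f', hf', rfl⟩ h1 h2 h3 h4
    refine or_iff_not_imp_left.2 fun h => ?_
    rw [uniq_aux hu hu' h hf ((inc_AB hu hf).1 h1) ((inc_AB hu' hf).1 h2),
      uniq_aux hu hu' h hf' ((inc_AB hu hf').1 h3) ((inc_AB hu' hf').1 h4)]
  inc := by
    rintro _ ⟨u, hu, rfl⟩ _ ⟨f, hf, rfl⟩ h
    rw [card_inf_AB hu hf ((inc_AB hu hf).1 h), hF]
  fix := by
    rintro _ ⟨u, hu, rfl⟩ _ ⟨f, hf, rfl⟩ z hz h1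
    rw [tv_norm hu hz h1, inc_AB hu hf]
  disj := by
    rintro _ ⟨u, hu, rfl⟩ ⟨f, hf, e⟩
    have h1 := card_inf_AB hu hf ((inc_AB hu hf).1 (e ▸ Ap_inc_self hu))
    have h2 := Cl.two_le_natCard_field F
    rw [← e, inf_idem, card_Ap hu] at h1
    nlinarith
  sing := (sing_sl hF).elim fun t ht =>
    ⟨_, ⟨_, ev_ne 2, rfl⟩, _, ⟨_, ev_ne 0, rfl⟩, _, ⟨_, ev_ne 0, rfl⟩, t, ht⟩

theorem sq_LS : ∀ B ∈ LS F, ∀ x ∈ B, x * x = 1 := by
  rintro _ ⟨f, -, rfl⟩ _ ⟨u, h, rfl⟩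
  exact tv_sq h

theorem half_sl' [Finite F] {n : ℕ} (hF : Nat.card F = 2 ^ n) :
    Half (⊤ : Subgroup SL(3, F)) (2 ^ n) (LS F) (PS F) := by
  have h := (half_sl hF).map sq_LS (tau F) fun c hc => by
    rw [(map_eq_one_iff _ tau_injective).1 hc]
    exact ⟨one_mem _, one_pow _⟩
  have h1 : Subgroup.map (tau F) '' PS F = LS F := Set.ext fun B =>
    ⟨by rintro ⟨_, ⟨u, hu, rfl⟩, rfl⟩; exact ⟨u, hu, map_tau_Ap u⟩,
      by rintro ⟨u, hu, rfl⟩; exact ⟨_, ⟨u, hu, rfl⟩, map_tau_Ap u⟩⟩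
  have h2 : Subgroup.map (tau F) '' LS F = PS F := Set.ext fun B =>
    ⟨by rintro ⟨_, ⟨u, hu, rfl⟩, rfl⟩; exact ⟨u, hu, map_tau_Bl u⟩,
      by rintro ⟨u, hu, rfl⟩; exact ⟨_, ⟨u, hu, rfl⟩, map_tau_Bl u⟩⟩
  rwa [h1, h2, map_top_of_surjective _ (Finite.surjective_of_injective tau_injective)] at h

end SL

variable {G : Type u} [Group G] [Finite G] {N : Subgroup G}

set_option linter.unusedSectionVars false in
theorem pl_psl {F : Type} [Field F] [Fintype F] {n : ℕ} (hF : Fintype.card F = 2 ^ n) (hn : 1 ≤ n)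
    (e : N ≃* Matrix.ProjectiveSpecialLinearGroup (Fin 3) F) :
    (∃ P L, Pl N (2 ^ n) P L) ∧ (2 ^ n = 4 → Nat.card N = 20160) := by
  have : CharP F 2 := charP_of_card_eq_prime_pow hF
  rw [← Nat.card_eq_fintype_card] at hF
  have := Cl.psl_fin_isSimpleGroup (F := F) (n := 3) (by norm_num) (by norm_num)
  have := e.isSimpleGroup
  let f : SL(3, F) →* G := N.subtype.comp (e.symm.toMonoidHom.comp (QuotientGroup.mk' _))
  have hk : ∀ c, f c = 1 → c ∈ center SL(3, F) ∧ c ^ 3 = 1 := fun c hc => by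
    have h1 : c ∈ center SL(3, F) := (QuotientGroup.eq_one_iff c).1
      ((map_eq_one_iff e.symm e.symm.injective).1 (Subtype.ext hc))
    obtain ⟨r, hr, e⟩ := Matrix.SpecialLinearGroup.mem_center_iff.1 h1
    refine ⟨h1, Subtype.ext ?_⟩
    change c.1 ^ 3 = 1
    rw [← e, ← map_pow, show r ^ 3 = 1 by simpa using hr, map_one]
  have ht : (⊤ : Subgroup SL(3, F)).map f = N := by
    rw [← Subgroup.map_map, map_top_of_surjective _ (e.symm.surjective.comp (QuotientGroup.mk'_surjective _)),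
      map_subtype_top]
  refine ⟨⟨_, _, ht ▸ (half_sl hF).map sq_LS f hk, ht ▸ (half_sl' hF).map (half_sl hF).sq f hk,
    fun M h1 h2 => ?_, n, hn, rfl⟩, fun h4 => ?_⟩
  · have h3 : (M.subgroupOf N).Normal := (normal_subgroupOf_iff_le_normalizer h1).2 h2
    rcases h3.eq_bot_or_eq_top with h | h
    · exact Or.inl (disjoint_iff.1 (subgroupOf_eq_bot.1 h) ▸ (inf_eq_left.2 h1).symm)
    · exact Or.inr (le_antisymm h1 (subgroupOf_eq_top.1 h))
  · have h1 := Cl.card_psl_mul (ι := Fin 3) (F := F)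
    rw [Cl.card_sl_three, hF, h4, Fintype.card_fin, ← Nat.card_congr e.toEquiv] at h1
    norm_num at h1
    omega

end Cfsg.Agent.HL
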